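import Cfsg.Agent.Lib.Symplectic.Std

/-! Transvection centres of a subgroup of `Sp`: the moves between full centres. -/

set_option autoImplicit false

namespace Cfsg.Agent.Lib.GenSp

open Matrix Cfsg.Agent.Lib.Symplectic

variable {n : ℕ} {F : Type*} [Field F]

/-- The natural module. -/
abbrev Vsp (n : ℕ) (F : Type*) := Fin n ⊕ Fin n → F

/-- The symplectic group. -/
abbrev SpG (n : ℕ) (F : Type*) [CommRing F] := Matrix.symplecticGroup (Fin n) F

/-- The action on a vector. -/
def act (g : SpG n F) (x : Vsp n F) : Vsp n F := (g : Matrix (Fin n ⊕ Fin n) (Fin n ⊕ Fin n) F) *ᵥ x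

theorem act_mul (g h : SpG n F) (x : Vsp n F) : act (g * h) x = act g (act h x) := by
  rw [act, act, act, mulVec_mulVec]; rfl

@[simp] theorem act_one (x : Vsp n F) : act (1 : SpG n F) x = x := by
  show (1 : Matrix (Fin n ⊕ Fin n) (Fin n ⊕ Fin n) F) *ᵥ x = x
  rw [one_mulVec]

theorem act_inv_act (g : SpG n F) (x : Vsp n F) : act g⁻¹ (act g x) = x := by
  rw [← act_mul, inv_mul_cancel, act_one]

theorem act_act_inv (g : SpG n F) (x : Vsp n F) : act g (act g⁻¹ x) = x := by
  rw [← act_mul, mul_inv_cancel, act_one]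

theorem act_add (g : SpG n F) (x y : Vsp n F) : act g (x + y) = act g x + act g y := mulVec_add _ _ _

theorem act_smul (g : SpG n F) (a : F) (x : Vsp n F) : act g (a • x) = a • act g x := mulVec_smul _ _ _

theorem act_sub (g : SpG n F) (x y : Vsp n F) : act g (x - y) = act g x - act g y := mulVec_sub _ _ _

theorem act_zero (g : SpG n F) : act g (0 : Vsp n F) = 0 := mulVec_zero _

theorem ext_act {g h : SpG n F} (e : ∀ x, act g x = act h x) : g = h :=
  Subtype.ext (Matrix.mulVec_injective (funext e))

theorem bil_act (g : SpG n F) (x y : Vsp n F) :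
    stdForm n F (act g x) (act g y) = stdForm n F x y :=
  (mem_sp_iff (A := (g : Matrix (Fin n ⊕ Fin n) (Fin n ⊕ Fin n) F))).1 g.2 x y

theorem bil_act_left (g : SpG n F) (x y : Vsp n F) :
    stdForm n F (act g x) y = stdForm n F x (act g⁻¹ y) := by
  rw [← bil_act g x (act g⁻¹ y), act_act_inv]

theorem bil_self (x : Vsp n F) : stdForm n F x x = 0 := (isSympForm_stdForm n F).self x

theorem bil_swap (x y : Vsp n F) : stdForm n F y x = -stdForm n F x y := by
  have h := bil_self (x + y)
  simp only [map_add, LinearMap.add_apply, bil_self] at h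
  linear_combination h

theorem bil_ne_swap {x y : Vsp n F} (h : stdForm n F x y ≠ 0) : stdForm n F y x ≠ 0 := by
  rw [bil_swap]; exact neg_ne_zero.2 h

/-- A symplectic transvection. -/
def tr (v : Vsp n F) (c : F) : SpG n F := ⟨Cfsg.sympTransvection n v c, sympTransvection_mem v c⟩

theorem act_tr (v : Vsp n F) (c : F) (x : Vsp n F) : act (tr v c) x = x + (c * stdForm n F x v) • v := by
  show Cfsg.sympTransvection n v c *ᵥ x = _
  rw [← spEquiv_symm_transv, spEquiv_symm_mulVec, transv_smul]

theorem tr_mul (v : Vsp n F) (c d : F) : tr v c * tr v d = tr v (c + d) := by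
  refine ext_act fun x => ?_
  simp only [act_mul, act_tr, map_add, map_smul, LinearMap.add_apply, LinearMap.smul_apply, bil_self,
    smul_zero, add_zero]
  module

theorem tr_zero (v : Vsp n F) : tr v (0 : F) = 1 := ext_act fun x => by simp [act_tr]

theorem tr_zero_left (c : F) : tr (0 : Vsp n F) c = 1 := ext_act fun x => by simp [act_tr]

theorem tr_inv (v : Vsp n F) (c : F) : (tr v c)⁻¹ = tr v (-c) :=
  inv_eq_of_mul_eq_one_right (by rw [tr_mul, add_neg_cancel, tr_zero])

theorem tr_smul (v : Vsp n F) (a c : F) : tr (a • v) c = tr v (a * a * c) := by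
  refine ext_act fun x => ?_
  rw [act_tr, act_tr, map_smul, smul_smul]
  congr 2
  simp only [smul_eq_mul]; ring

theorem tr_conj (g : SpG n F) (v : Vsp n F) (c : F) : g * tr v c * g⁻¹ = tr (act g v) c := by
  refine ext_act fun x => ?_
  rw [act_mul, act_mul, act_tr, act_tr, act_add, act_smul, act_act_inv, ← bil_act g (act g⁻¹ x) v, act_act_inv]

/-- The splitting of a transvection at a vector of an isotropic plane. -/
theorem tr_plane {v w : Vsp n F} (h : stdForm n F v w = 0) (b c : F) :
    tr (v + b • w) c = tr v (c - c * b) * tr w (c * b * b - c * b) * tr (v + w) (c * b) := by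
  have h' : stdForm n F w v = 0 := by rw [bil_swap, h, neg_zero]
  refine ext_act fun x => ?_
  simp only [act_mul, act_tr, map_add, map_smul, LinearMap.add_apply, LinearMap.smul_apply, bil_self, h, h',
    smul_eq_mul, mul_zero, add_zero, zero_mul]
  module

/-- All transvections with centre `v` lie in `K`. -/
def Full (K : Subgroup (SpG n F)) (v : Vsp n F) : Prop := ∀ c : F, tr v c ∈ K

variable {K : Subgroup (SpG n F)}

theorem full_zero (K : Subgroup (SpG n F)) : Full K (0 : Vsp n F) := fun c => by
  rw [tr_zero_left]; exact one_mem K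

theorem Full.smul {v : Vsp n F} (h : Full K v) (a : F) : Full K (a • v) := fun c => by
  rw [tr_smul]; exact h _

theorem Full.act {v : Vsp n F} (h : Full K v) {g : SpG n F} (hg : g ∈ K) : Full K (GenSp.act g v) := fun c => by
  rw [← tr_conj]; exact mul_mem (mul_mem hg (h c)) (inv_mem hg)

/-- Moving along a full centre. -/
theorem Full.move {x s : Vsp n F} (hx : Full K x) (hs : Full K s) (t : F) :
    Full K (x + (t * stdForm n F x s) • s) := by
  rw [← act_tr]; exact hx.act (hs t)

/-- Two non-orthogonal full centres give their plane. -/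
theorem Full.add_nonorth {v w : Vsp n F} (hv : Full K v) (hw : Full K w) (h : stdForm n F v w ≠ 0) (b : F) :
    Full K (v + b • w) := by
  have := hv.move hw (b / stdForm n F v w)
  rwa [div_mul_cancel₀ _ h] at this

theorem Full.plane_nonorth {v w : Vsp n F} (hv : Full K v) (hw : Full K w) (h : stdForm n F v w ≠ 0) (a b : F) :
    Full K (a • v + b • w) := by
  rcases eq_or_ne a 0 with rfl | ha
  · rw [zero_smul, zero_add]; exact hw.smul b
  · have := ((hv.add_nonorth hw h (b / a))).smul a
    rwa [smul_add, smul_smul, mul_div_cancel₀ _ ha] at this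

/-- Three centres in an isotropic plane give the plane. -/
theorem Full.plane_orth {v w : Vsp n F} (hv : Full K v) (hw : Full K w) (hvw : Full K (v + w))
    (h : stdForm n F v w = 0) (b : F) : Full K (v + b • w) := fun c => by
  rw [tr_plane h]; exact mul_mem (mul_mem (hv _) (hw _)) (hvw _)

/-- Two full centres with a common full neighbour give their span. -/
theorem Full.add_common (hq : ∃ t : F, t ≠ 0 ∧ t ≠ 1) {v w z : Vsp n F} (hv : Full K v) (hw : Full K w)
    (hz : Full K z) (h1 : stdForm n F v z ≠ 0) (h2 : stdForm n F w z ≠ 0) (b : F) : Full K (v + b • w) := by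
  by_cases h : stdForm n F v w = 0
  swap
  · exact hv.add_nonorth hw h b
  obtain ⟨b1, hb0, hb⟩ : ∃ b1 : F, b1 ≠ 0 ∧ stdForm n F v z + b1 * stdForm n F w z ≠ 0 := by
    obtain ⟨t, ht0, ht1⟩ := hq
    by_cases e : stdForm n F v z + 1 * stdForm n F w z = 0
    · refine ⟨t, ht0, fun e' => ht1 ?_⟩
      have : (t - 1) * stdForm n F w z = 0 := by linear_combination e' - e
      exact sub_eq_zero.1 ((mul_eq_zero.1 this).resolve_right h2)
    · exact ⟨1, one_ne_zero, e⟩
  have e1 : Full K (v + (1 : F) • z) := hv.add_nonorth hz h1 1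
  have e2 : Full K (v + (1 : F) • z + b1 • w) := e1.add_nonorth hw (by
    rw [map_add, map_smul, LinearMap.add_apply, LinearMap.smul_apply, h, one_smul, zero_add]
    exact bil_ne_swap h2) b1
  have e3 := e2.add_nonorth hz (by
    simp only [map_add, map_smul, LinearMap.add_apply, LinearMap.smul_apply, bil_self, smul_eq_mul]
    simpa using hb) (-1)
  have e4 : Full K (v + b1 • w) := by convert e3 using 1; module
  have := hv.plane_orth (hw.smul b1) e4 (by rw [map_smul, h, smul_zero]) (b / b1)
  rwa [smul_smul, div_mul_cancel₀ _ hb0] at this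

/-- All centres full means the whole group. -/
theorem eq_top_of_full (h : ∀ v : Vsp n F, Full K v) : K = ⊤ := by
  rw [eq_top_iff, ← closure_sympTransvection_eq_top, Subgroup.closure_le]
  rintro A ⟨w, c, hA⟩
  rw [show A = tr w c from Subtype.ext hA]
  exact h w c

theorem Full.smul_iff {v : Vsp n F} {a : F} (ha : a ≠ 0) : Full K (a • v) ↔ Full K v :=
  ⟨fun h => by simpa [smul_smul, inv_mul_cancel₀ ha] using h.smul a⁻¹, fun h => h.smul a⟩

theorem exists_dual (K : Submodule F (Vsp n F)) (hK : ∀ x : Vsp n F, x ≠ 0 → ∃ y ∈ K, stdForm n F x y ≠ 0) :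
    K = ⊤ := by
  by_contra hne
  obtain ⟨φ, hφ0, hφ⟩ := Submodule.exists_dual_map_eq_bot_of_lt_top (lt_top_iff_ne_top.2 hne) inferInstance
  have hinj : Function.Injective (stdForm n F) := fun x y e => by
    by_contra hxy
    obtain ⟨z, -, hz⟩ := hK (x - y) (sub_ne_zero.2 hxy)
    exact hz (by rw [map_sub, LinearMap.sub_apply, e, sub_self])
  obtain ⟨x, rfl⟩ := (LinearMap.injective_iff_surjective_of_finrank_eq_finrank
    (V₂ := Module.Dual F (Vsp n F)) Subspace.dual_finrank_eq.symm).1 hinj φ
  obtain ⟨y, hy, hxy⟩ := hK x (fun e => hφ0 (by rw [e, map_zero]))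
  refine hxy ?_
  have : stdForm n F x y ∈ K.map (stdForm n F x) := Submodule.mem_map_of_mem hy
  rwa [hφ, Submodule.mem_bot] at this

end Cfsg.Agent.Lib.GenSp
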