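import Cfsg.Agent.Lib.GenSp.Unip
import Cfsg.Agent.Lib.GenSL.GoodRoots

/-! The conjugates of the regular unipotent and its regularity. -/

set_option autoImplicit false

namespace Cfsg.Agent.Lib.GenSp

open Matrix Cfsg.Agent.Lib.Symplectic Cfsg.Agent.Lib.Forms.SpParabolic Cfsg.Agent.Lib.GenSL

variable {n : ℕ} {F : Type*} [Field F]

/-- The conclusion: three conjugate regular unipotents generate. -/
def SpGen (n : ℕ) (F : Type*) [Field F] : Prop :=
  ∃ g h : SpG n F, Subgroup.closure ({uSp n F, g * uSp n F * g⁻¹, h * uSp n F * h⁻¹} : Set (SpG n F)) = ⊤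

/-- The swap of the two Lagrangians. -/
def jSp (n : ℕ) (F : Type*) [Field F] : SpG n F := ⟨Matrix.J (Fin n) F, SymplecticGroup.J_mem (Fin n) F⟩

theorem act_j_f (w : Fin n → F) : act (jSp n F) (fVec w) = eVec (-w) := by
  funext i
  show (Matrix.J (Fin n) F *ᵥ fVec w) i = _
  rw [Matrix.J, fromBlocks_mulVec]
  have e1 : fVec w ∘ Sum.inl = 0 := by funext j; simp [fVec]
  have e2 : fVec w ∘ Sum.inr = w := by funext j; simp [fVec]
  rw [e1, e2]
  rcases i with i | i <;> simp [eVec, neg_mulVec]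

theorem exists_prescribed (G : Matrix (Fin n) (Fin n) F) (hG : ∀ c, G *ᵥ c = 0 → c = 0) :
    ∃ h : SpG n F, ∀ k, k < n → act h (orb n F k) = eVec (G *ᵥ dl k) := by
  classical
  have hGu : IsUnit G := Matrix.mulVec_injective_iff_isUnit.1 fun x y e => sub_eq_zero.1 (hG _ (by
    rw [mulVec_sub]; exact sub_eq_zero.2 e))
  let P : Matrix (Fin n) (Fin n) F := Matrix.of fun i j => phi n F j.val i
  have hP : P.det = 1 := by
    rw [Matrix.det_of_isUpperTriangular]
    · exact Finset.prod_eq_one fun i _ => phi_diag i.val i rfl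
    · intro i j hij
      exact phi_high j.val i hij
  have hPu : IsUnit P := (Matrix.isUnit_iff_isUnit_det P).2 (by rw [hP]; exact isUnit_one)
  set Q : Matrix (Fin n) (Fin n) F := G * ((hPu.unit⁻¹ : (Matrix (Fin n) (Fin n) F)ˣ) : Matrix (Fin n) (Fin n) F)
  have hQu : IsUnit (-Qᵀ) := by
    rw [IsUnit.neg_iff, Matrix.isUnit_transpose]
    exact hGu.mul (Units.isUnit _)
  refine ⟨jSp n F * mkSp (hQu.unit⁻¹) ⟨0, transpose_zero⟩, fun k hk => ?_⟩
  rw [orb_low k hk, act_mul, act_mkSp_zero_f, act_j_f, inv_inv, IsUnit.unit_spec, transpose_neg, transpose_transpose,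
    neg_mulVec, neg_neg]
  congr 1
  have e : phi n F k = P *ᵥ dl k := by
    funext i
    rw [mulVec, dotProduct, Finset.sum_eq_single ⟨k, hk⟩]
    · simp [P, dl]
    · intro b _ hb; simp [dl, Fin.val_ne_of_ne hb]
    · simp
  rw [e, mulVec_mulVec]
  congr 1
  rw [Matrix.mul_assoc]
  rw [hPu.val_inv_mul, Matrix.mul_one]

section orbit

variable {G : Matrix (Fin n) (Fin n) F} {h : SpG n F}

/-- The conjugate. -/
noncomputable def vSp (h : SpG n F) : SpG n F := h * uSp n F * h⁻¹

theorem act_v_pow (k : ℕ) : act (vSp h ^ k) (act h (orb n F 0)) = act h (orb n F k) := by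
  rw [vSp, conj_pow, act_mul, act_mul, act_inv_act]
  congr 1
  rw [orb, orb, pow_zero, act_one]

theorem act_v (k : ℕ) : act (vSp h) (act h (orb n F k)) = act h (orb n F (k + 1)) := by
  rw [vSp, act_mul, act_mul, act_inv_act, orb_succ]

theorem separates (hn : 1 ≤ n) (x : Vsp n F) (hx : x ≠ 0) :
    ∃ k, k < 2 * n ∧ stdForm n F x (act (vSp h ^ k) (act h (orb n F 0))) ≠ 0 := by
  obtain ⟨k, hkn, hk⟩ := orb_separates hn (act h⁻¹ x) (fun e => hx (by rw [← act_act_inv h x, e, act_zero]))
  refine ⟨k, hkn, ?_⟩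
  rw [act_v_pow]
  rwa [bil_act_left, inv_inv] at hk

theorem bil_top (hn : 1 ≤ n) (hh : ∀ k, k < n → act h (orb n F k) = eVec (G *ᵥ dl k)) (c : Fin n → F) :
    stdForm n F (eVec (G *ᵥ c)) (act h (orb n F n)) = c ⟨0, hn⟩ * d0 n F := by
  have hc : c = ∑ k : Fin n, c k • dl (n := n) (F := F) k.val := by
    funext i
    rw [Finset.sum_apply, Finset.sum_eq_single i]
    · simp [dl]
    · intro b _ hb; simp [dl, Fin.val_ne_of_ne (Ne.symm hb)]
    · simp
  conv_lhs => rw [hc]
  have e : eVec (G *ᵥ ∑ k : Fin n, c k • dl k.val) = ∑ k : Fin n, c k • eVec (G *ᵥ dl k.val) := by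
    rw [mulVec_sum]
    simp only [mulVec_smul]
    funext i
    rcases i with i | i <;> simp [eVec, Finset.sum_apply]
  rw [e, map_sum, LinearMap.sum_apply, Finset.sum_eq_single ⟨0, hn⟩]
  · rw [map_smul, LinearMap.smul_apply, ← hh 0 (by omega), bil_act, bil_orb_n hn, smul_eq_mul]
  · intro b _ hb
    have hb' : b.val ≠ 0 := fun e => hb (Fin.ext e)
    have := b.isLt
    rw [map_smul, LinearMap.smul_apply, ← hh b.val b.isLt, bil_act]
    obtain ⟨m, hm⟩ : ∃ m, n = b.val + m := ⟨n - b.val, by omega⟩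
    rw [show orb n F n = orb n F (b.val + m) by rw [← hm], bil_orb, bil_orb_small m (by omega), smul_zero]
  · simp

end orbit

/-- Multiplier tool: a set of parameters closed under a generating element is everything. -/
theorem tr_all {K : Subgroup (SpG n F)} {a : Vsp n F} {μ t0 : F} (hgen : ∀ A : Subring F, μ ∈ A → A = ⊤)
    (hstep : ∀ t, tr a t ∈ K → tr a (μ * t) ∈ K) (h0 : tr a t0 ∈ K) (ht0 : t0 ≠ 0) : Full K a := by
  let S : AddSubgroup F :=
    { carrier := {t | tr a t ∈ K}
      zero_mem' := by show tr a 0 ∈ K; rw [tr_zero]; exact one_mem K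
      add_mem' := fun {x y} hx hy => by show tr a (x + y) ∈ K; rw [← tr_mul]; exact mul_mem hx hy
      neg_mem' := fun {x} hx => by show tr a (-x) ∈ K; rw [← tr_inv]; exact inv_mem hx }
  let A : Subring F :=
    { carrier := {c | ∀ x ∈ S, c * x ∈ S}
      mul_mem' := fun {a c} ha hc x hx => by rw [mul_assoc]; exact ha _ (hc x hx)
      one_mem' := fun x hx => by rwa [one_mul]
      add_mem' := fun {a c} ha hc x hx => by rw [add_mul]; exact add_mem (ha x hx) (hc x hx)
      zero_mem' := fun x _ => by rw [zero_mul]; exact zero_mem S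
      neg_mem' := fun {a} ha x hx => by rw [neg_mul]; exact neg_mem (ha x hx) }
  have hA : A = ⊤ := hgen A hstep
  intro t
  have h := (hA ▸ Subring.mem_top (t / t0) : t / t0 ∈ A) _ (show t0 ∈ S from h0)
  rw [div_mul_cancel₀ _ ht0] at h
  exact h

theorem pow_fromBlocks_upper (A B D : Matrix (Fin n) (Fin n) F) (k : ℕ) :
    ∃ C, fromBlocks A B 0 D ^ k = fromBlocks (A ^ k) C 0 (D ^ k) := by
  induction k with
  | zero => exact ⟨0, by rw [pow_zero, pow_zero, pow_zero, fromBlocks_one]⟩
  | succ k ih =>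
    obtain ⟨C, hC⟩ := ih
    exact ⟨A ^ k * B + C * D, by rw [pow_succ, hC, fromBlocks_multiply]; simp [pow_succ]⟩

theorem uSp_regular (hn : 1 ≤ n) :
    IsNilpotent ((uSp n F : Matrix (Fin n ⊕ Fin n) (Fin n ⊕ Fin n) F) - 1) ∧
      ((uSp n F : Matrix (Fin n ⊕ Fin n) (Fin n ⊕ Fin n) F) - 1) ^ (2 * n - 1) ≠ 0 := by
  set N : Matrix (Fin n) (Fin n) F := shiftMat n F with hN
  set a : Matrix (Fin n) (Fin n) F := (aU n F : Matrix (Fin n) (Fin n) F) with ha
  have hcomm : a * N = N * a := by
    have h1 : a * (1 + N) = (1 + N) * a := by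
      rw [hN, ha, ← coe_aU_inv, Units.mul_inv, Units.inv_mul]
    simp only [Matrix.mul_add, Matrix.add_mul, Matrix.mul_one, Matrix.one_mul] at h1
    exact add_left_cancel h1
  have hanil : a - 1 = -(a * N) := by
    have h1 : a * (1 + N) = 1 := by rw [hN, ha, ← coe_aU_inv, Units.mul_inv]
    rw [Matrix.mul_add, Matrix.mul_one] at h1
    calc a - 1 = a - (a + a * N) := by rw [h1]
      _ = -(a * N) := by abel
  have hNn : N ^ n = 0 := by ext i j; rw [hN, shiftMat_pow, if_neg (by omega)]; rfl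
  have hA : ∀ k, (a - 1) ^ k = (-1 : Matrix (Fin n) (Fin n) F) ^ k * (a ^ k * N ^ k) := fun k => by
    rw [hanil, neg_pow, (show Commute a N from hcomm).mul_pow]
  have hu : (uSp n F : Matrix (Fin n ⊕ Fin n) (Fin n ⊕ Fin n) F) - 1 =
      fromBlocks (a - 1) (a * (lastE n F 1).1) 0 Nᵀ := by
    show fromBlocks _ _ _ _ - 1 = _
    rw [coe_aU_inv, ← fromBlocks_one]
    ext i j
    rcases i with i | i <;> rcases j with j | j <;> simp [ha, hN, Matrix.one_apply, eq_comm]
  constructor
  · refine ⟨n + n, ?_⟩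
    rw [hu, pow_add]
    obtain ⟨C, hC⟩ := pow_fromBlocks_upper (a - 1) (a * (lastE n F 1).1) Nᵀ n
    rw [hC, hA, hNn, ← transpose_pow, hNn, fromBlocks_multiply]
    simp
  · intro h0
    -- the cyclic vector
    set M := (uSp n F : Matrix (Fin n ⊕ Fin n) (Fin n ⊕ Fin n) F) - 1 with hM
    have hMact : ∀ x, M *ᵥ x = act (uSp n F) x - x := fun x => by rw [hM, sub_mulVec, one_mulVec]; rfl
    have hlow : ∀ k, k < n → M ^ k *ᵥ fVec (dl 0) = fVec (dl k) := by
      intro k
      induction k with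
      | zero => intro _; rw [pow_zero, one_mulVec]
      | succ k ih =>
        intro hk
        rw [pow_succ', ← mulVec_mulVec, ih (by omega), hMact, act_u_f _ hn]
        funext i
        rcases i with i | i
        · simp [fVec, eVec, dl, show n - 1 ≠ k by omega]
        · simp only [Pi.sub_apply, Pi.add_apply, fVec, eVec, Sum.elim_inr, Pi.zero_apply, zero_add, fstep, dl]
          have := i.isLt
          split_ifs <;> first | omega | simp
    have htop : M ^ n *ᵥ fVec (dl 0) = eVec (sig n F) := by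
      rw [show M ^ n = M * M ^ (n - 1) by rw [← pow_succ', Nat.sub_add_cancel hn], ← mulVec_mulVec, hlow (n - 1) (by omega), hMact, act_u_f _ hn]
      funext i
      rcases i with i | i
      · simp [fVec, eVec, dl]
      · simp only [Pi.sub_apply, Pi.add_apply, fVec, eVec, Sum.elim_inr, Pi.zero_apply, zero_add, fstep, dl]
        have := i.isLt
        split_ifs <;> first | omega | simp
    have h1 : M ^ (n - 1) *ᵥ eVec (sig n F) = 0 := by
      rw [← htop, mulVec_mulVec, ← pow_add, show n - 1 + n = 2 * n - 1 by omega, h0, zero_mulVec]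
    rw [hu] at h1
    obtain ⟨C, hC⟩ := pow_fromBlocks_upper (a - 1) (a * (lastE n F 1).1) Nᵀ (n - 1)
    rw [hC, fromBlocks_mulVec] at h1
    have h2 : (a - 1) ^ (n - 1) *ᵥ sig n F = 0 := by
      funext i
      have := congrFun h1 (Sum.inl i)
      simpa [eVec, mulVec, dotProduct] using this
    rw [hA, ← mulVec_mulVec, ← mulVec_mulVec] at h2
    have hNl : N ^ (n - 1) *ᵥ sig n F = dl 0 := by
      funext i
      rw [mulVec, dotProduct]
      have := i.isLt
      by_cases hi : i.val = 0
      · rw [Finset.sum_eq_single ⟨n - 1, by omega⟩]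
        · rw [hN, shiftMat_pow, if_pos (by simp only; omega)]; simp [dl, hi, sig]
        · intro b _ hb; simp [Fin.ext_iff] at hb; rw [hN, shiftMat_pow, if_neg (by omega), zero_mul]
        · simp
      · rw [show dl (n := n) (F := F) 0 i = 0 by simp [dl, hi]]
        exact Finset.sum_eq_zero fun b _ => by rw [hN, shiftMat_pow, if_neg (by omega), zero_mul]
    have hak : ∀ k, a ^ k *ᵥ dl 0 = dl 0 := by
      intro k
      induction k with
      | zero => rw [pow_zero, one_mulVec]
      | succ k ih => rw [pow_succ, ← mulVec_mulVec, ha, aU_dl_zero, ← ha, ih]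
    rw [hNl, hak] at h2
    rcases neg_one_pow_eq_or (Matrix (Fin n) (Fin n) F) (n - 1) with e | e <;>
      · rw [e] at h2
        have := congrFun h2 ⟨0, hn⟩
        simp [dl, neg_mulVec] at this

end Cfsg.Agent.Lib.GenSp
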