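import Cfsg.Agent.Lib.GenSp.Odd

/-! Three conjugate regular unipotents: characteristic two, `n ≥ 3`. -/

set_option autoImplicit false

namespace Cfsg.Agent.Lib.GenSp

open Matrix Cfsg.Agent.Lib.Symplectic Cfsg.Agent.Lib.Forms.SpParabolic Cfsg.Agent.Lib.GenSL

variable {n : ℕ} {F : Type*} [Field F]

/-- A root element from the torus. -/
theorem exists_seed_torus (hn : 1 ≤ n) (c : F) (hc : c ≠ 0) :
    ∃ g : SpG n F, (uSp n F)⁻¹ * (g * uSp n F * g⁻¹) = tr (eVec (dl (n - 1))) (c ^ 2 - 1) := by
  set D : GL (Fin n) F := Units.map (algebraMap F (Matrix (Fin n) (Fin n) F)).toMonoidHom (Units.mk0 c hc)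
  have hD : ∀ z : Fin n → F, (D : Matrix (Fin n) (Fin n) F) *ᵥ z = c • z := fun z => by
    show (algebraMap F (Matrix (Fin n) (Fin n) F) c) *ᵥ z = _
    rw [Algebra.algebraMap_eq_smul_one, smul_mulVec, one_mulVec]
  have hD' : ∀ z : Fin n → F, ((D⁻¹ : GL (Fin n) F) : Matrix (Fin n) (Fin n) F)ᵀ *ᵥ z = c⁻¹ • z := fun z => by
    have e : ((D⁻¹ : GL (Fin n) F) : Matrix (Fin n) (Fin n) F) = algebraMap F (Matrix (Fin n) (Fin n) F) c⁻¹ := by
      rw [← map_inv]; rfl
    rw [e, Algebra.algebraMap_eq_smul_one, transpose_smul, transpose_one, smul_mulVec, one_mulVec]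
  refine ⟨mkSp D ⟨0, transpose_zero⟩, ?_⟩
  rw [inv_mul_eq_iff_eq_mul, mul_inv_eq_iff_eq_mul]
  refine ext_act fun x => ?_
  rw [decomp x]
  generalize (x ∘ Sum.inl) = z
  generalize (x ∘ Sum.inr) = y
  simp only [act_mul, act_add]
  congr 1
  · rw [act_mkSp_e D, hD, act_tr, bil_ee, mul_zero, zero_smul, add_zero, eVec_smul, act_smul, uSp, act_mkSp_e,
      act_mkSp_e, hD, eVec_smul]
  · rw [act_mkSp_zero_f, hD', act_u_f _ hn, act_add, act_mkSp_e, act_mkSp_zero_f, hD, hD', act_tr, bil_fe]
    simp only [act_add, act_smul, fVec_smul, act_u_f _ hn, smul_dotProduct]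
    rw [dotProduct_comm, dl_dot (n - 1) (by omega), show act (uSp n F) (eVec (dl (n - 1))) = eVec (sig n F) by
      rw [uSp, act_mkSp_e, aU_dl hn]]
    simp only [eVec_smul, fVec_smul]
    have e1 : c⁻¹ * c = 1 := inv_mul_cancel₀ hc
    generalize y ⟨n - 1, _⟩ = s
    simp only [smul_add, smul_smul, smul_eq_mul]
    rw [add_right_comm, ← add_smul]
    congr 2
    field_simp
    ring

/-- Characteristic two. -/
theorem spGen_even [Finite F] (hn : 3 ≤ n) (h2 : (2 : F) = 0) (hq : ∃ t : F, t ≠ 0 ∧ t ≠ 1) : SpGen n F := by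
  classical
  obtain ⟨c, hc0, hc1⟩ := hq
  have hc2 : c ^ 2 - 1 ≠ 0 := by
    intro e
    have h : (c - 1) * (c - 1) = 0 := by linear_combination e + (1 - c) * h2
    exact hc1 (sub_eq_zero.1 (mul_self_eq_zero.1 h))
  obtain ⟨μ, hμ, hgen⟩ := exists_pow_gen (F := F) (k := 2) (by omega) le_rfl
  let f : (Fin n → F) →ₗ[F] (Fin n → F) :=
    { toFun := fun z i => (if i.val + 1 = n then z ⟨0, by omega⟩ else 0) + μ * z ⟨1, by omega⟩ * sig n F i
        + (if i.val + 2 = n then z ⟨2, by omega⟩ else 0) + if h : i.val + 3 < n then z ⟨i.val + 3, h⟩ else 0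
      map_add' := fun z w => by funext i; simp only [Pi.add_apply]; split_ifs <;> ring
      map_smul' := fun a z => by funext i; simp only [Pi.smul_apply, smul_eq_mul, RingHom.id_apply]; split_ifs <;> ring }
  set G := LinearMap.toMatrix' f
  have hG : ∀ z, G *ᵥ z = f z := fun z => LinearMap.toMatrix'_mulVec f z
  have hσ : ∀ i, sig n F i ≠ 0 := fun i => pow_ne_zero _ (neg_ne_zero.2 one_ne_zero)
  have hinj : ∀ z, G *ᵥ z = 0 → z = 0 := by
    intro z hz
    rw [hG] at hz
    have e1 : z ⟨1, by omega⟩ = 0 := by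
      have := congrFun hz ⟨n - 3, by omega⟩
      simp [f, show n - 3 + 1 ≠ n by omega, show n - 3 + 2 ≠ n by omega, show ¬ (n - 3 + 3 < n) by omega, hμ, hσ] at this
      exact this
    funext k
    rcases eq_or_ne k.val 0 with h0 | h0
    · have := congrFun hz ⟨n - 1, by omega⟩
      simp [f, e1, show n - 1 + 1 = n by omega, show n - 1 + 2 ≠ n by omega, show ¬ (n - 1 + 3 < n) by omega] at this
      rwa [show k = ⟨0, by omega⟩ from Fin.ext h0]
    rcases eq_or_ne k.val 1 with h1 | h1
    · rwa [show k = ⟨1, by omega⟩ from Fin.ext h1]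
    rcases eq_or_ne k.val 2 with h2' | h2'
    · have := congrFun hz ⟨n - 2, by omega⟩
      simp [f, e1, show n - 2 + 1 ≠ n by omega, show n - 2 + 2 = n by omega, show ¬ (n - 2 + 3 < n) by omega] at this
      rwa [show k = ⟨2, by omega⟩ from Fin.ext h2']
    · have hk := k.isLt
      have := congrFun hz ⟨k.val - 3, by omega⟩
      simp [f, e1, show k.val - 3 + 1 ≠ n by omega, show k.val - 3 + 2 ≠ n by omega,
        show k.val - 3 + 3 < n by omega] at this
      rw [show (⟨k.val - 3 + 3, _⟩ : Fin n) = k from Fin.ext (by simp only; omega)] at this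
      exact this
  obtain ⟨h, hh⟩ := exists_prescribed G hinj
  obtain ⟨g, hg⟩ := exists_seed_torus (n := n) (by omega) c hc0
  refine ⟨g, h, ?_⟩
  set K := Subgroup.closure ({uSp n F, g * uSp n F * g⁻¹, h * uSp n F * h⁻¹} : Set (SpG n F))
  obtain ⟨hu, hu', hv⟩ := mem_three g h
  have e0 : G *ᵥ dl 0 = dl (n - 1) := by
    rw [hG]; funext i
    simp [f, dl]
    have := i.isLt
    split_ifs <;> first | omega | simp
  have e1 : G *ᵥ dl 1 = μ • sig n F := by
    rw [hG]; funext i
    simp [f, dl]
  have e2 : (1 + shiftMat n F) *ᵥ dl (n - 1) = G *ᵥ (dl 0 + dl 2) := by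
    rw [hG]; funext i
    have := i.isLt
    rw [shift_mulVec]
    simp [f, dl]
    split_ifs <;> first | omega | simp
  set a := eVec (dl (n := n) (F := F) (n - 1)) with ha
  have ha' : act h (orb n F 0) = a := by rw [hh 0 (by omega), e0]
  have hua : act (uSp n F) a = eVec (sig n F) := by rw [ha, uSp, act_mkSp_e, aU_dl (by omega)]
  have hva : act (vSp h) a = μ • eVec (sig n F) := by rw [← ha', act_v, hh 1 (by omega), e1, eVec_smul]
  have hC : act ((uSp n F)⁻¹ * vSp h) a = μ • a := by
    rw [act_mul, hva, act_smul, ← hua, act_inv_act]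
  have hfull : Full K a := by
    refine tr_all (μ := μ ^ 2) hgen (fun t ht => ?_) (t0 := c ^ 2 - 1) ?_ hc2
    · have hCK : (uSp n F)⁻¹ * vSp h ∈ K := mul_mem (inv_mem hu) hv
      rw [show μ ^ 2 * t = μ * μ * t by ring, ← tr_smul, ← hC, ← tr_conj]
      exact mul_mem (mul_mem hCK ht) (inv_mem hCK)
    · rw [ha, ← hg]; exact mul_mem (inv_mem hu) hu'
  set z := act h (orb n F n) with hz
  have hzfull : Full K z := by
    rw [hz, ← act_v_pow n, ha']; exact hfull.act (pow_mem hv n)
  have haz : stdForm n F a z = d0 n F := by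
    rw [ha, ← e0, bil_top (by omega) hh]; simp [dl]
  have haz' : stdForm n F (act (uSp n F)⁻¹ a) z = d0 n F := by
    rw [ha, act_u_e_inv, e2, bil_top (by omega) hh]; simp [dl]
  have h1 : stdForm n F a (act (uSp n F) z) = d0 n F := by
    rw [← haz', bil_act_left, inv_inv]
  have h3 : stdForm n F (eVec (sig n F)) (act (uSp n F) z) = d0 n F := by rw [← hua, bil_act, haz]
  refine eq_top_of_spread ⟨c, hc0, hc1⟩ hfull hu hv ?_ ?_ ?_
  · exact ⟨_, hzfull.act hu, by rw [h1]; exact d0_ne_zero, by rw [hua, h3]; exact d0_ne_zero⟩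
  · refine ⟨_, hzfull.act hu, by rw [h1]; exact d0_ne_zero, ?_⟩
    rw [hva, map_smul, LinearMap.smul_apply, h3]
    exact mul_ne_zero hμ d0_ne_zero
  · intro x hx
    obtain ⟨k, -, hk⟩ := separates (h := h) (by omega) x hx
    exact ⟨vSp h ^ k, pow_mem (Subgroup.subset_closure (by simp)) k, by rwa [← ha']⟩

/-- Two elements. -/
theorem spGen_two (hn : 3 ≤ n) (hF : ∀ t : F, t = 0 ∨ t = 1) : SpGen n F := by
  classical
  obtain ⟨g, hg⟩ := exists_seed_three (n := n) (F := F) hn 1
  obtain ⟨h, hh⟩ := exists_prescribed (1 : Matrix (Fin n) (Fin n) F) (fun c hc => by simpa using hc)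
  simp only [one_mulVec] at hh
  refine ⟨g, h, ?_⟩
  set K := Subgroup.closure ({uSp n F, g * uSp n F * g⁻¹, h * uSp n F * h⁻¹} : Set (SpG n F))
  obtain ⟨hu, hu', hv⟩ := mem_three g h
  have hfull : Full K (eVec (dl (n := n) (F := F) 0)) := fun t => by
    rcases hF t with rfl | rfl
    · rw [tr_zero]; exact one_mem K
    · rw [← hg]; exact mul_mem (inv_mem hu) hu'
  have hp : ∀ k, Full K (act h (orb n F k)) := fun k => by
    rw [← act_v_pow k, hh 0 (by omega)]; exact hfull.act (pow_mem hv k)
  let W : ℕ → Submodule F (Vsp n F) := fun k =>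
    Submodule.span F ((fun i => act h (orb n F i)) '' {i | i < k ∨ (n ≤ i ∧ i < n + k)})
  have hproj : ∀ {M : Submodule F (Vsp n F)}, GoodSub K M → ∀ x, ∃ w ∈ M, ∀ y ∈ M, stdForm n F (x - w) y = 0 := by
    intro M hM x
    let T : M →ₗ[F] Module.Dual F M := ((LinearMap.lcomp F F M.subtype).comp ((stdForm n F).comp M.subtype))
    have hT : ∀ a b : M, T a b = stdForm n F a b := fun a b => rfl
    have hinj : Function.Injective T := fun a b e => by
      by_contra hab
      obtain ⟨y, hy, hy'⟩ := hM.nondeg (a - b : M) (a - b).2 (fun e' => hab (sub_eq_zero.1 (Subtype.ext e')))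
      refine hy' ?_
      have := LinearMap.congr_fun e ⟨y, hy⟩
      rw [hT, hT] at this
      rw [Submodule.coe_sub, map_sub, LinearMap.sub_apply, this, sub_self]
    obtain ⟨w, hw⟩ := (LinearMap.injective_iff_surjective_of_finrank_eq_finrank
      (V₂ := Module.Dual F M) Subspace.dual_finrank_eq.symm).1 hinj ((stdForm n F x).comp M.subtype)
    refine ⟨w, w.2, fun y hy => ?_⟩
    have := LinearMap.congr_fun hw ⟨y, hy⟩
    rw [hT] at this
    rw [map_sub, LinearMap.sub_apply, this]
    exact sub_self _
  have hd : d0 n F ≠ 0 := d0_ne_zero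
  have hgood : ∀ k, k ≤ n → GoodSub K (W k) := by
    intro k
    induction k with
    | zero =>
      intro _
      have e : W 0 = ⊥ := by
        simp only [W]
        rw [Submodule.span_eq_bot]
        rintro _ ⟨i, hi, rfl⟩
        simp only [Set.mem_ofPred_eq] at hi
        omega
      rw [e]; exact goodSub_bot
    | succ k ih =>
      intro hk
      have hWk := ih (by omega)
      set p := act h (orb n F k) with hpdef
      set zk := act h (orb n F (n + k)) with hzk
      have hW : W (k + 1) = W k ⊔ Submodule.span F {p, zk} := by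
        simp only [W]
        rw [← Submodule.span_union]
        congr 1
        ext x
        simp only [Set.mem_image, Set.mem_ofPred_eq, Set.mem_union, Set.mem_insert_iff, Set.mem_singleton_iff]
        constructor
        · rintro ⟨i, hi, rfl⟩
          rcases eq_or_ne i k with rfl | h1
          · right; left; rfl
          rcases eq_or_ne i (n + k) with rfl | h2
          · right; right; rfl
          · left; exact ⟨i, by omega, rfl⟩
        · rintro (⟨i, hi, rfl⟩ | rfl | rfl)
          · exact ⟨i, by omega, rfl⟩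
          · exact ⟨k, by omega, rfl⟩
          · exact ⟨n + k, by omega, rfl⟩
      have hpz : stdForm n F p zk = d0 n F := by
        rw [hpdef, hzk, bil_act, bil_low_high (by omega) k k (by omega) le_rfl, if_pos rfl]
      rcases eq_or_ne k 0 with rfl | hk0
      · have e : W 0 = ⊥ := by
          simp only [W]
          rw [Submodule.span_eq_bot]
          rintro _ ⟨i, hi, rfl⟩
          simp only [Set.mem_ofPred_eq] at hi
          omega
        rw [hW, e, bot_sup_eq]
        exact goodSub_plane (hp _) (hp _) (by rw [hpz]; exact hd)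
      have hpW : ∀ y ∈ W k, stdForm n F p y = 0 := by
        intro y hy
        refine (Submodule.span_le (p := LinearMap.ker (stdForm n F p))).2 ?_ hy
        rintro _ ⟨i, hi, rfl⟩
        show stdForm n F p (act h (orb n F i)) = 0
        rw [hpdef, bil_act]
        rcases hi with hi | ⟨hi1, hi2⟩
        · rw [orb_low k (by omega), orb_low i (by omega), bil_ff]
        · rw [show i = n + (i - n) by omega, bil_low_high (by omega) k (i - n) (by omega) (by omega),
            if_neg (by omega)]
      obtain ⟨w0, hw0, hq⟩ := hproj hWk zk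
      have hpq : stdForm n F p (zk - w0) ≠ 0 := by rw [map_sub, hpW w0 hw0, sub_zero, hpz]; exact hd
      set ws := act h (orb n F (k - 1))
      have hws : ws ∈ W k := Submodule.subset_span ⟨k - 1, Or.inl (by omega), rfl⟩
      have hws0 : ws ≠ 0 := by
        intro e
        have h3 : stdForm n F ws (act h (orb n F (n + (k - 1)))) = d0 n F := by
          rw [bil_act, bil_low_high (by omega) (k - 1) (k - 1) (by omega) le_rfl, if_pos rfl]
        rw [e, map_zero, LinearMap.zero_apply] at h3
        exact hd h3.symm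
      have hfs : Full K (ws + p) := by
        have e : ws + p = act (uSp n F)⁻¹ p := by
          simp only [ws, hpdef, hh k (by omega), hh (k - 1) (by omega), act_u_e_inv, ← eVec_add]
          congr 1
          funext i
          have := i.isLt
          simp only [shift_mulVec, Pi.add_apply, dl]
          split_ifs <;> first | omega | simp
        rw [e]; exact (hp k).act (inv_mem hu)
      have hg' := hWk.glue hpW hq hpq (hp k) hw0 (by rw [sub_add_cancel]; exact hp _) hws hws0 hfs
      have e : W k ⊔ Submodule.span F {p, zk - w0} = W (k + 1) := by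
        rw [hW]
        refine le_antisymm ?_ ?_
        · refine sup_le le_sup_left ((Submodule.span_le).2 ?_)
          rintro x (rfl | rfl)
          · exact Submodule.mem_sup_right (Submodule.subset_span (by simp))
          · exact sub_mem (Submodule.mem_sup_right (Submodule.subset_span (by simp))) (Submodule.mem_sup_left hw0)
        · refine sup_le le_sup_left ((Submodule.span_le).2 ?_)
          rintro x (rfl | rfl)
          · exact Submodule.mem_sup_right (Submodule.subset_span (by simp))
          · rw [← sub_add_cancel zk w0]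
            exact add_mem (Submodule.mem_sup_right (Submodule.subset_span (by simp))) (Submodule.mem_sup_left hw0)
      rwa [e] at hg'
  have htop : W n = ⊤ := exists_dual _ fun x hx => by
    obtain ⟨j, hj, hne⟩ := separates (h := h) (by omega) x hx
    rw [act_v_pow] at hne
    exact ⟨_, Submodule.subset_span ⟨j, by show _ ∨ _; omega, rfl⟩, hne⟩
  exact eq_top_of_full fun x => (hgood n le_rfl).full x (htop ▸ Submodule.mem_top)

end Cfsg.Agent.Lib.GenSp
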