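import Cfsg.Agent.Lib.GenSp.Even

/-! Three conjugate regular unipotents: `Sp_4(q)`, `q ≥ 4` even. -/

set_option autoImplicit false

namespace Cfsg.Agent.Lib.GenSp

open Matrix Cfsg.Agent.Lib.Symplectic Cfsg.Agent.Lib.Forms.SpParabolic Cfsg.Agent.Lib.GenSL

variable {n : ℕ} {F : Type*} [Field F]

theorem exists_bil_ne {x : Vsp n F} (hx : x ≠ 0) : ∃ y, stdForm n F x y ≠ 0 := by
  by_contra h
  push Not at h
  exact hx ((isSympForm_stdForm n F).nondeg x h)

/-- An isometry fixing a hyperbolic pair and moving one orthogonal vector to another. -/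
theorem exists_move {a w p p' : Vsp n F} (haw : stdForm n F a w ≠ 0) (hp : p ≠ 0) (hp' : p' ≠ 0)
    (h1 : stdForm n F p a = 0) (h2 : stdForm n F p w = 0) (h3 : stdForm n F p' a = 0) (h4 : stdForm n F p' w = 0) :
    ∃ τ : SpG n F, act τ a = a ∧ act τ w = w ∧ act τ p = p' := by
  have step : ∀ x y : Vsp n F, stdForm n F x a = 0 → stdForm n F x w = 0 → stdForm n F y a = 0 →
      stdForm n F y w = 0 → stdForm n F x y ≠ 0 →
      ∃ τ : SpG n F, act τ a = a ∧ act τ w = w ∧ act τ x = y := by
    intro x y x1 x2 y1 y2 hxy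
    have e : ∀ z, stdForm n F x z = 0 → stdForm n F y z = 0 → stdForm n F z (y - x) = 0 := fun z e1 e2 => by
      rw [map_sub, bil_swap y z, bil_swap x z, e1, e2, neg_zero, sub_zero]
    refine ⟨tr (y - x) (1 / stdForm n F x y), ?_, ?_, ?_⟩
    · rw [act_tr, e a x1 y1, mul_zero, zero_smul, add_zero]
    · rw [act_tr, e w x2 y2, mul_zero, zero_smul, add_zero]
    · rw [act_tr, map_sub, bil_self, sub_zero, div_mul_cancel₀ _ hxy, one_smul, add_sub_cancel]
  obtain ⟨x, hx⟩ := exists_bil_ne hp
  obtain ⟨x', hx'⟩ := exists_bil_ne hp'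
  obtain ⟨z, hz, hz'⟩ : ∃ z, stdForm n F p z ≠ 0 ∧ stdForm n F p' z ≠ 0 := by
    by_cases e : stdForm n F p' x = 0
    swap
    · exact ⟨x, hx, e⟩
    by_cases e' : stdForm n F p x' = 0
    swap
    · exact ⟨x', e', hx'⟩
    exact ⟨x + x', by rwa [map_add, e', add_zero], by rwa [map_add, e, zero_add]⟩
  set s := stdForm n F a w with hs
  have hwa : stdForm n F w a = -s := bil_swap a w
  set m := z - (stdForm n F z w / s) • a + (stdForm n F z a / s) • w with hm
  have m1 : stdForm n F m a = 0 := by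
    simp only [hm, map_add, map_sub, map_smul, LinearMap.add_apply, LinearMap.sub_apply, LinearMap.smul_apply,
      bil_self, hwa, smul_eq_mul]
    field_simp
    ring
  have m2 : stdForm n F m w = 0 := by
    simp only [hm, map_add, map_sub, map_smul, LinearMap.add_apply, LinearMap.sub_apply, LinearMap.smul_apply,
      bil_self, ← hs, smul_eq_mul]
    field_simp
    ring
  have mz : ∀ q, stdForm n F q a = 0 → stdForm n F q w = 0 → stdForm n F q m = stdForm n F q z := by
    intro q q1 q2
    simp [hm, q1, q2]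
  obtain ⟨τ1, a1, w1, e1⟩ := step p m h1 h2 m1 m2 (by rwa [mz p h1 h2])
  obtain ⟨τ2, a2, w2, e2⟩ := step m p' m1 m2 h3 h4 (bil_ne_swap (by rwa [mz p' h3 h4]))
  exact ⟨τ2 * τ1, by rw [act_mul, a1, a2], by rw [act_mul, w1, w2], by rw [act_mul, e1, e2]⟩

theorem act_u_two (g1 g2 : F) :
    act (uSp 2 F) (fVec ![g1, g2]) = eVec ![-g2, g2] + fVec ![g1, g1 + g2] := by
  rw [act_u_f _ (by norm_num)]
  congr 2
  · funext i; fin_cases i <;> simp [sig]
  · funext i; fin_cases i <;> simp [fstep, add_comm]

theorem dot2 (a b c d : F) : (![a, b] : Fin 2 → F) ⬝ᵥ ![c, d] = a * c + b * d := by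
  simp [dotProduct, Fin.sum_univ_two]

/-- Characteristic two, `n = 2`. -/
theorem spGen_four [Finite F] (h2 : (2 : F) = 0) (hq : ∃ t : F, t ≠ 0 ∧ t ≠ 1) : SpGen 2 F := by
  classical
  obtain ⟨μ, hμ, hgen⟩ := exists_pow_gen (F := F) (k := 2) (by omega) le_rfl
  have hneg : ∀ x : F, -x = x := fun x => by linear_combination (-x) * h2
  obtain ⟨t, ht0, ht1⟩ := hq
  have hμ1 : μ ≠ 1 := by
    intro e
    let P : Subring F :=
      { carrier := {x | x = 0 ∨ x = 1}
        zero_mem' := Or.inl rfl
        one_mem' := Or.inr rfl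
        add_mem' := by
          rintro a b (rfl | rfl) (rfl | rfl) <;> first | (left; simp; done) | (right; simp; done) | (left; linear_combination h2)
        mul_mem' := by rintro a b (rfl | rfl) (rfl | rfl) <;> first | (left; simp; done) | (right; simp; done)
        neg_mem' := by rintro a (rfl | rfl) <;> first | (left; simp; done) | (right; exact hneg 1) }
    have hP : t ∈ P := by rw [hgen P (Or.inr (by rw [e, one_pow]))]; exact Subring.mem_top t
    rcases hP with h | h
    · exact ht0 h
    · exact ht1 h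
  have h1t : 1 + t ≠ 0 := fun e => ht1 (by linear_combination e - h2)
  set g1 : F := t ^ 2 / (1 + t) with hg1
  have hg10 : g1 ≠ 0 := div_ne_zero (pow_ne_zero 2 ht0) h1t
  have hg12 : g1 + t ≠ 0 := by
    rw [hg1]; intro e; field_simp at e
    exact ht0 (by linear_combination e - t * t * h2)
  have hkey : t * (g1 + t) = g1 := by
    rw [hg1]; field_simp; linear_combination t * h2
  set y : Vsp 2 F := fVec ![g1, t] with hy
  set w : Vsp 2 F := fVec ![(1 + μ) * g1, g1] with hw
  set a : Vsp 2 F := eVec ![0, 1] with ha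
  have hadl : a = eVec (dl (2 - 1)) := by
    rw [ha]; congr 1; funext i; fin_cases i <;> simp [dl]
  -- the images under `u`
  have huy : act (uSp 2 F) y = eVec ![-t, t] + fVec ![g1, g1 + t] := act_u_two _ _
  have huy' : act (uSp 2 F)⁻¹ y = eVec ![0, g1 + t] + fVec ![g1, g1 + t] := by
    have e : act (uSp 2 F) (eVec ![0, g1 + t] + fVec ![g1, g1 + t]) = y := by
      rw [act_add, act_u_two, uSp, act_mkSp_e, hy]
      have e1 : ((aU 2 F : GL (Fin 2) F) : Matrix (Fin 2) (Fin 2) F) *ᵥ ![0, g1 + t] = (g1 + t) • sig 2 F := by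
        rw [← aU_dl (by norm_num), ← mulVec_smul]; congr 1; funext i; fin_cases i <;> simp [dl]
      rw [e1]
      funext i
      rcases i with i | i <;> fin_cases i <;> simp [eVec, fVec, sig]
      all_goals (ring_nf; simp [h2])
    conv_lhs => rw [← e, act_inv_act]
  have huw : act (uSp 2 F) w = eVec ![-g1, g1] + fVec ![(1 + μ) * g1, (1 + μ) * g1 + g1] := act_u_two _ _
  have haw : stdForm 2 F a w = -g1 := by rw [ha, hw, bil_ef, dot2]; ring
  have hbyuy : stdForm 2 F y (act (uSp 2 F) y) = g1 := by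
    rw [huy, hy, map_add, bil_ff, add_zero, bil_fe, dot2]
    linear_combination hkey - g1 * t * h2
  -- the hyperbolic pairs
  obtain ⟨A, hA1, hA2⟩ := exists_sp_mulVec_pair (u := g1⁻¹ • y) (v := act (uSp 2 F) y) (u' := g1⁻¹ • a) (v' := w)
    (by rw [← stdForm_eq_sympForm, map_smul, LinearMap.smul_apply, hbyuy, smul_eq_mul, inv_mul_cancel₀ hg10])
    (by rw [← stdForm_eq_sympForm, map_smul, LinearMap.smul_apply, haw, smul_eq_mul, hneg, inv_mul_cancel₀ hg10])
  change act A (g1⁻¹ • y) = g1⁻¹ • a at hA1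
  change act A (act (uSp 2 F) y) = w at hA2
  have hA1' : act A y = a := by
    have := congrArg (fun z => g1 • z) hA1
    simpa [act_smul, smul_smul, mul_inv_cancel₀ hg10] using this
  set r := μ⁻¹ • act (uSp 2 F) w with hr
  set q := act A (act (uSp 2 F)⁻¹ y) with hqd
  have qa : stdForm 2 F q a = g1 := by
    rw [hqd, ← hA1', bil_act, huy', hy, map_add, LinearMap.add_apply, bil_ff, add_zero, bil_ef, dot2, hneg]
    linear_combination hkey
  have qw : stdForm 2 F q w = g1 ^ 2 := by
    rw [hqd, ← hA2, bil_act, huy', huy]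
    simp only [map_add, LinearMap.add_apply, bil_ee, bil_ff, bil_ef, bil_fe, dot2, hneg]
    linear_combination (2 * g1 * t + t * t) * h2
  have ra : stdForm 2 F r a = g1 := by
    rw [hr, huw, ha, map_smul, LinearMap.smul_apply, map_add, LinearMap.add_apply, bil_ee, bil_fe, dot2, smul_eq_mul]
    field_simp
    linear_combination g1 * h2
  have rw' : stdForm 2 F r w = g1 ^ 2 := by
    rw [hr, huw, hw, map_smul, LinearMap.smul_apply, map_add, LinearMap.add_apply, bil_ff, add_zero, bil_ef, dot2,
      smul_eq_mul, hneg]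
    field_simp
    linear_combination (-μ) * h2
  set p := q - g1 • a + w with hp
  set p' := r - g1 • a + w with hp'
  have hwa : stdForm 2 F w a = g1 := by rw [bil_swap, haw, neg_neg]
  have pa : ∀ x : Vsp 2 F, stdForm 2 F x a = g1 → stdForm 2 F (x - g1 • a + w) a = 0 := fun x e => by
    simp only [map_add, map_sub, map_smul, LinearMap.add_apply, LinearMap.sub_apply, LinearMap.smul_apply, bil_self, hwa, e]
    simp only [smul_eq_mul]; linear_combination g1 * h2
  have pw : ∀ x : Vsp 2 F, stdForm 2 F x w = g1 ^ 2 → stdForm 2 F (x - g1 • a + w) w = 0 := fun x e => by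
    simp only [map_add, map_sub, map_smul, LinearMap.add_apply, LinearMap.sub_apply, LinearMap.smul_apply, bil_self, haw, e]
    simp only [smul_eq_mul]; linear_combination g1 ^ 2 * h2
  have hp0 : p ≠ 0 := by
    intro e
    have h : act (uSp 2 F)⁻¹ y - g1 • y + act (uSp 2 F) y = 0 := by
      have h' : act A (act (uSp 2 F)⁻¹ y - g1 • y + act (uSp 2 F) y) = 0 := by
        rw [act_add, act_sub, act_smul, hA1', hA2]; exact e
      have := congrArg (act A⁻¹) h'
      rwa [act_inv_act, act_zero] at this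
    rw [huy', huy, hy] at h
    have h0 := congrFun h (Sum.inl 0)
    simp [eVec, fVec] at h0
    exact ht0 h0
  have hp0' : p' ≠ 0 := by
    intro e
    rw [hp', hr, huw, hw, ha] at e
    have h0 := congrFun e (Sum.inr 0)
    simp [eVec, fVec] at h0
    field_simp at h0
    have h1 : (1 + μ) * (1 + μ) * g1 = 0 := by linear_combination h0
    rcases mul_eq_zero.1 h1 with h | h
    · exact hμ1 (by linear_combination (mul_self_eq_zero.1 h) - h2)
    · exact hg10 h
  obtain ⟨τ, τa, τw, τp⟩ := exists_move (by rw [haw]; exact neg_ne_zero.2 hg10) hp0 hp0'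
    (pa q qa) (pw q qw) (pa r ra) (pw r rw')
  set h := τ * A with hh
  have hy' : act h y = a := by rw [hh, act_mul, hA1', τa]
  have huy2 : act h (act (uSp 2 F) y) = w := by rw [hh, act_mul, hA2, τw]
  have huy3 : act h (act (uSp 2 F)⁻¹ y) = r := by
    rw [hh, act_mul, ← hqd, show q = p + (g1 • a - w) by rw [hp]; abel, act_add, act_sub, act_smul, τa, τw, τp, hp']
    abel
  have hva : act (vSp h) a = w := by rw [← hy', vSp, act_mul, act_mul, act_inv_act, huy2]
  have hvuw : act (vSp h) (act (uSp 2 F) w) = μ • a := by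
    rw [show act (uSp 2 F) w = μ • r by rw [hr, smul_smul, mul_inv_cancel₀ hμ, one_smul], act_smul, ← huy3, vSp,
      act_mul, act_mul, act_inv_act, act_act_inv, hy']
  obtain ⟨g, hg⟩ := exists_seed_torus (n := 2) (F := F) (by norm_num) t ht0
  have ht2 : t ^ 2 - 1 ≠ 0 := by
    intro e
    exact ht1 (sub_eq_zero.1 (mul_self_eq_zero.1 (show (t - 1) * (t - 1) = 0 by linear_combination e + (1 - t) * h2)))
  refine ⟨g, h, ?_⟩
  set K := Subgroup.closure ({uSp 2 F, g * uSp 2 F * g⁻¹, h * uSp 2 F * h⁻¹} : Set (SpG 2 F))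
  obtain ⟨hu, hu', hv⟩ := mem_three g h
  have hfull : Full K a := by
    refine tr_all (μ := μ ^ 2) hgen (fun s hs => ?_) (t0 := t ^ 2 - 1) ?_ ht2
    · have hW : vSp h * uSp 2 F * vSp h ∈ K := mul_mem (mul_mem hv hu) hv
      have e : act (vSp h * uSp 2 F * vSp h) a = μ • a := by rw [act_mul, act_mul, hva, hvuw]
      rw [show μ ^ 2 * s = μ * μ * s by ring, ← tr_smul, ← e, ← tr_conj]
      exact mul_mem (mul_mem hW hs) (inv_mem hW)
    · rw [hadl, ← hg]; exact mul_mem (inv_mem hu) hu'
  have hwfull : Full K w := by rw [← hva]; exact hfull.act hv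
  have hua : act (uSp 2 F) a = eVec ![-1, 1] := by
    rw [hadl, uSp, act_mkSp_e, aU_dl (by norm_num)]
    congr 1; funext i; fin_cases i <;> simp [sig]
  refine eq_top_of_spread ⟨t, ht0, ht1⟩ hfull hu hv ?_ ?_ ?_
  · refine ⟨w, hwfull, by rw [haw]; exact neg_ne_zero.2 hg10, ?_⟩
    rw [hua, hw, bil_ef, dot2]
    intro e
    exact mul_ne_zero hμ hg10 (by linear_combination e)
  · refine ⟨a + (1 : F) • w, hfull.add_nonorth hwfull (by rw [haw]; exact neg_ne_zero.2 hg10) 1, ?_, ?_⟩
    · rw [one_smul, map_add, bil_self, zero_add, haw]; exact neg_ne_zero.2 hg10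
    · rw [hva, one_smul, map_add, bil_self, add_zero, bil_swap, haw, neg_neg]; exact hg10
  · intro x hx
    by_contra hall
    push Not at hall
    have hu0 : uSp 2 F ∈ Subgroup.closure ({uSp 2 F, vSp h} : Set (SpG 2 F)) := Subgroup.subset_closure (by simp)
    have hv0 : vSp h ∈ Subgroup.closure ({uSp 2 F, vSp h} : Set (SpG 2 F)) := Subgroup.subset_closure (by simp)
    have k1 := hall 1 (one_mem _)
    have k2 := hall _ hu0
    have k3 := hall _ hv0
    have k4 := hall _ (mul_mem hu0 hv0)
    rw [act_one, ha, decomp x, map_add, LinearMap.add_apply, bil_ee, bil_fe, zero_add] at k1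
    rw [hua, decomp x, map_add, LinearMap.add_apply, bil_ee, bil_fe, zero_add] at k2
    rw [hva, hw, decomp x, map_add, LinearMap.add_apply, bil_ff, bil_ef, add_zero] at k3
    rw [act_mul, hva, huw, decomp x, map_add (stdForm 2 F), LinearMap.add_apply, map_add, map_add, bil_ee, bil_ff,
      bil_ef, bil_fe] at k4
    simp only [dotProduct, Fin.sum_univ_two, Function.comp_apply, cons_val_zero, cons_val_one] at k1 k2 k3 k4
    have f1 : x (Sum.inr 1) = 0 := by linear_combination k1
    have f0 : x (Sum.inr 0) = 0 := by linear_combination -k2 + k1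
    rw [f0, f1] at k4
    have hm : (1 + μ) * (1 + μ) ≠ 0 := by
      intro e
      exact hμ1 (by linear_combination (mul_self_eq_zero.1 e) - h2)
    have e1 : x (Sum.inl 1) = 0 := by
      have : x (Sum.inl 1) * ((1 + μ) * g1) = 0 := by linear_combination k3 - k4
      refine (mul_eq_zero.1 this).resolve_right (mul_ne_zero (fun e => hμ1 (by linear_combination e - h2)) hg10)
    have e0 : x (Sum.inl 0) = 0 := by
      rw [e1] at k3
      have : x (Sum.inl 0) * ((1 + μ) * g1) = 0 := by linear_combination -k3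
      refine (mul_eq_zero.1 this).resolve_right (mul_ne_zero (fun e => hμ1 (by linear_combination e - h2)) hg10)
    refine hx (funext fun i => ?_)
    rcases i with i | i <;> fin_cases i <;> assumption

end Cfsg.Agent.Lib.GenSp
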