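import Cfsg.Agent.Lib.GenSp.Conj

/-! Three conjugate regular unipotents: odd characteristic. -/

set_option autoImplicit false

namespace Cfsg.Agent.Lib.GenSp

open Matrix Cfsg.Agent.Lib.Symplectic Cfsg.Agent.Lib.Forms.SpParabolic Cfsg.Agent.Lib.GenSL

variable {n : ℕ} {F : Type*} [Field F]

theorem tr_eVec (k : ℕ) (c : F) :
    tr (eVec (dl (n := n) k)) c = mkSp 1 ⟨Matrix.diagonal fun i => if i.val = k then c else 0, diagonal_transpose _⟩ := by
  refine ext_act fun x => ?_
  rw [decomp x]
  generalize (x ∘ Sum.inl) = z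
  generalize (x ∘ Sum.inr) = y
  rw [act_tr, act_mkSp, map_add, LinearMap.add_apply, bil_ee, bil_fe, zero_add]
  simp only [Units.val_one, inv_one, transpose_one, one_mulVec, Matrix.one_mul]
  funext i
  rcases i with i | i
  · simp [eVec, fVec, mulVec_diagonal, dl]
    split_ifs with h
    · rw [dotProduct, Finset.sum_eq_single i]
      · simp [dl, h]
      · intro b _ hb; simp [dl, show b.val ≠ k from fun e => hb (Fin.ext (e.trans h.symm))]
      · simp
    · simp
  · simp [eVec, fVec]

/-- A root element as quotient of two conjugates. -/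
theorem exists_seed (b : F) (Y : ℕ → ℕ → F) (hY : ∀ i j, Y i j = Y j i) (hYn : ∀ i j, n ≤ i → Y i j = 0)
    (h : ∀ i j, i < n → j < n → Y i j + Y (i + 1) j + (Y i (j + 1) + Y (i + 1) (j + 1)) =
      Y i j + if i = 0 ∧ j = 0 then b else 0) :
    ∃ g : SpG n F, (uSp n F)⁻¹ * (g * uSp n F * g⁻¹) = tr (eVec (dl 0)) b := by
  classical
  let Ym : Sym n F := ⟨Matrix.of fun i j => Y i.val j.val, Matrix.ext fun i j => hY _ _⟩
  let D : Sym n F := ⟨Matrix.diagonal fun i => if i.val = 0 then b else 0, diagonal_transpose _⟩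
  refine ⟨mkSp 1 Ym, ?_⟩
  rw [inv_mul_eq_iff_eq_mul, mul_inv_eq_iff_eq_mul, tr_eVec]
  have hM : (1 + shiftMat n F) * Ym.1 * (1 + shiftMat n F)ᵀ = Ym.1 + D.1 := by
    have h1 : ∀ i j : Fin n, ((1 + shiftMat n F) * Ym.1) i j = Y i.val j.val + Y (i.val + 1) j.val := by
      intro i j
      rw [show ((1 + shiftMat n F) * Ym.1) i j = ((1 + shiftMat n F) *ᵥ fun k => Ym.1 k j) i from rfl, shift_mulVec]
      split_ifs with hi
      · rfl
      · rw [hYn (i.val + 1) j.val (by omega)]; rfl
    have h3 : ∀ (A : Matrix (Fin n) (Fin n) F) (i j : Fin n),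
        (HMul.hMul A (Matrix.transpose (1 + shiftMat n F)) : Matrix (Fin n) (Fin n) F) i j = ((1 + shiftMat n F) *ᵥ fun k => A i k) j := fun A i j => by
      rw [Matrix.mul_apply, mulVec, dotProduct]
      exact Finset.sum_congr rfl fun k _ => by rw [transpose_apply, mul_comm]
    ext i j
    rw [h3 ((1 + shiftMat n F) * Ym.1) i j, shift_mulVec, h1]
    have eD : D.1 i j = if i.val = 0 ∧ j.val = 0 then b else 0 := by
      show (Matrix.diagonal fun i : Fin n => if i.val = 0 then b else 0) i j = _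
      rw [Matrix.diagonal_apply]
      split_ifs <;> simp_all [Fin.ext_iff]
    rw [Matrix.add_apply, eD, show Ym.1 i j = Y i.val j.val from rfl, ← h i.val j.val i.isLt j.isLt]
    split_ifs with hj
    · rw [h1]
    · rw [hY i.val (j.val + 1), hY (i.val + 1) (j.val + 1), hYn (j.val + 1) i.val (by omega),
        hYn (j.val + 1) (i.val + 1) (by omega)]
      ring
  rw [uSp, mkSp_mul 1 (aU n F) Ym (lastE n F 1)
      ⟨(1 + shiftMat n F) * Ym.1 * (1 + shiftMat n F)ᵀ + (lastE n F 1).1, by
        rw [transpose_add, hM, transpose_add, Ym.2, D.2, (lastE n F 1).2]⟩ (by rw [coe_aU_inv]),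
    mkSp_mul (aU n F) 1 (lastE n F 1) D ⟨(lastE n F 1).1 + D.1, by rw [transpose_add, (lastE n F 1).2, D.2]⟩
      (by simp),
    mkSp_mul (aU n F * 1) 1 ⟨(lastE n F 1).1 + D.1, by rw [transpose_add, (lastE n F 1).2, D.2]⟩ Ym
      ⟨(lastE n F 1).1 + D.1 + Ym.1, by rw [transpose_add, transpose_add, (lastE n F 1).2, D.2, Ym.2]⟩ (by simp)]
  refine Subtype.ext ?_
  simp only [mkSp, one_mul, mul_one, hM]
  congr 2
  abel

/-- The quotient `tr (e_0) b`. -/
theorem exists_seed_three (hn : 3 ≤ n) (b : F) :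
    ∃ g : SpG n F, (uSp n F)⁻¹ * (g * uSp n F * g⁻¹) = tr (eVec (dl 0)) b := by
  refine exists_seed b (fun i j => if i = 1 ∧ j = 1 then b else if (i = 0 ∧ j = 2) ∨ (i = 2 ∧ j = 0) then -b else 0)
    (fun i j => ?_) (fun i j hi => ?_) (fun i j _ _ => ?_)
  · split_ifs <;> first | rfl | omega
  · split_ifs <;> first | rfl | omega
  · rcases i with _ | _ | _ | i <;> rcases j with _ | _ | _ | j <;> simp

theorem exists_seed_two (c : F) :
    ∃ g : SpG 2 F, (uSp 2 F)⁻¹ * (g * uSp 2 F * g⁻¹) = tr (eVec (dl 0)) (2 * c) := by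
  refine exists_seed (2 * c) (fun i j => if (i = 0 ∧ j = 1) ∨ (i = 1 ∧ j = 0) then c else 0)
    (fun i j => ?_) (fun i j hi => ?_) (fun i j _ _ => ?_)
  · split_ifs <;> first | rfl | omega
  · split_ifs <;> first | rfl | omega
  · rcases i with _ | _ | i <;> rcases j with _ | _ | j <;> simp; try ring

theorem tr_diff {a v : Vsp n F} (h : stdForm n F a v = 0) (r t : F) :
    tr (v + (2 * r) • a) t * tr (v + r • a) (-2 * t) * tr v t = tr a (2 * r ^ 2 * t) := by
  have h' : stdForm n F v a = 0 := by rw [bil_swap, h, neg_zero]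
  refine ext_act fun x => ?_
  simp only [act_mul, act_tr, map_add, map_smul, LinearMap.add_apply, LinearMap.smul_apply, bil_self, h, h',
    smul_eq_mul, mul_zero, add_zero]
  module

/-- Elements whose first or second power generates. -/
theorem exists_pow_gen [Finite F] {k : ℕ} (hk0 : 1 ≤ k) (hk : k ≤ 2) :
    ∃ x : F, x ≠ 0 ∧ ∀ A : Subring F, x ^ k ∈ A → A = ⊤ := by
  classical
  obtain ⟨γ, hγ⟩ := IsCyclic.exists_ofOrder_eq_natCard (α := Fˣ)
  rw [Nat.card_units] at hγ
  have hq := Finite.one_lt_card (α := F)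
  refine ⟨γ, γ.ne_zero, fun A hA => ?_⟩
  by_contra hne
  haveI : Finite A := Subtype.finite
  haveI : Fintype A := Fintype.ofFinite A
  letI := Fintype.fieldOfDomain A
  set β : A := ⟨(γ : F) ^ k, hA⟩
  have hβ0 : β ≠ 0 := fun h => pow_ne_zero k γ.ne_zero (congrArg Subtype.val h)
  have h1 : ((γ : F) ^ k) ^ (Nat.card A - 1) = 1 := by
    have h1 := congrArg Subtype.val (FiniteField.pow_card_sub_one_eq_one β hβ0)
    rw [Nat.card_eq_fintype_card]
    exact h1
  rw [← pow_mul] at h1
  have hdvd : Nat.card F - 1 ∣ k * (Nat.card A - 1) := by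
    rw [← hγ, orderOf_dvd_iff_pow_eq_one, ← Units.val_eq_one, Units.val_pow_eq_pow_val]
    exact h1
  have hA2 : 2 ≤ Nat.card A := Finite.one_lt_card
  have hle := Nat.le_of_dvd (Nat.mul_pos (by omega) (by omega)) hdvd
  have hdim : 2 ≤ Module.finrank A F := by
    have hpos : 0 < Module.finrank A F := Module.finrank_pos
    by_contra hlt
    have e := Module.natCard_eq_pow_finrank (K := A) (V := F)
    rw [show Module.finrank A F = 1 by omega, pow_one] at e
    have : Function.Surjective ((↑) : A → F) :=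
      (Function.Injective.bijective_of_nat_card_le Subtype.val_injective e.le).2
    refine hne (eq_top_iff.2 fun x _ => ?_)
    obtain ⟨y, hy⟩ := this x
    exact hy ▸ y.2
  have e := Module.natCard_eq_pow_finrank (K := A) (V := F)
  have hsq : Nat.card A * Nat.card A ≤ Nat.card F := by
    rw [e, ← pow_two]
    exact Nat.pow_le_pow_right (by omega) hdim
  have h2 : k * (Nat.card A - 1) ≤ 2 * (Nat.card A - 1) := Nat.mul_le_mul_right _ hk
  have h3 := Nat.mul_le_mul_right (Nat.card A) hA2
  omega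

theorem gen_two_mul [Finite F] (h2 : (2 : F) ≠ 0) {x : F} (h : ∀ A : Subring F, x ∈ A → A = ⊤) :
    ∀ A : Subring F, 2 * x ∈ A → A = ⊤ := by
  intro A hA
  haveI := Fintype.ofFinite F
  refine h A ?_
  have e : (2 : F)⁻¹ = 2 ^ (Fintype.card F - 2) := by
    refine inv_eq_of_mul_eq_one_right ?_
    rw [← pow_succ', show Fintype.card F - 2 + 1 = Fintype.card F - 1 by have := Fintype.one_lt_card (α := F); omega,
      FiniteField.pow_card_sub_one_eq_one _ h2]
  have h2A : (2 : F) ∈ A := by rw [← one_add_one_eq_two]; exact add_mem (one_mem A) (one_mem A)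
  rw [show x = (2 : F)⁻¹ * (2 * x) by rw [← mul_assoc, inv_mul_cancel₀ h2, one_mul], e]
  exact mul_mem (pow_mem h2A _) hA

theorem mem_three (g h : SpG n F) :
    let K := Subgroup.closure ({uSp n F, g * uSp n F * g⁻¹, h * uSp n F * h⁻¹} : Set (SpG n F))
    uSp n F ∈ K ∧ g * uSp n F * g⁻¹ ∈ K ∧ vSp h ∈ K :=
  ⟨Subgroup.subset_closure (by simp), Subgroup.subset_closure (by simp),
    Subgroup.subset_closure (by simp [vSp])⟩

/-- Odd characteristic. -/
theorem spGen_odd [Finite F] (hn : 2 ≤ n) (h2 : (2 : F) ≠ 0) : SpGen n F := by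
  classical
  obtain ⟨r, hr, hgen⟩ := exists_pow_gen (F := F) (k := 2) (by omega) le_rfl
  let f : (Fin n → F) →ₗ[F] (Fin n → F) :=
    { toFun := fun c i => if i.val = 0 then c ⟨0, by omega⟩ + c ⟨1, by omega⟩
        else if i.val = 1 then r * c ⟨1, by omega⟩ else c i
      map_add' := fun c d => by funext i; simp only [Pi.add_apply]; split_ifs <;> ring
      map_smul' := fun a c => by funext i; simp only [Pi.smul_apply, smul_eq_mul, RingHom.id_apply]; split_ifs <;> ring }
  set G := LinearMap.toMatrix' f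
  have hG : ∀ c, G *ᵥ c = f c := fun c => LinearMap.toMatrix'_mulVec f c
  have hinj : ∀ c, G *ᵥ c = 0 → c = 0 := by
    intro c hc
    rw [hG] at hc
    have e1 : c ⟨1, by omega⟩ = 0 := by
      have := congrFun hc ⟨1, by omega⟩
      simp [f, hr] at this
      exact this
    funext i
    rcases eq_or_ne i.val 0 with h0 | h0
    · have := congrFun hc ⟨0, by omega⟩
      simp [f, e1] at this
      rwa [show i = ⟨0, by omega⟩ from Fin.ext h0]
    rcases eq_or_ne i.val 1 with h1 | h1
    · rwa [show i = ⟨1, by omega⟩ from Fin.ext h1]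
    · have := congrFun hc i
      simpa [f, h0, h1] using this
  obtain ⟨h, hh⟩ := exists_prescribed G hinj
  obtain ⟨b, hb, g, hg⟩ : ∃ b : F, b ≠ 0 ∧ ∃ g : SpG n F, (uSp n F)⁻¹ * (g * uSp n F * g⁻¹) = tr (eVec (dl 0)) b := by
    rcases eq_or_ne n 2 with rfl | h3
    · exact ⟨2 * 1, by simpa using h2, exists_seed_two 1⟩
    · exact ⟨1, one_ne_zero, exists_seed_three (by omega) 1⟩
  refine ⟨g, h, ?_⟩
  set K := Subgroup.closure ({uSp n F, g * uSp n F * g⁻¹, h * uSp n F * h⁻¹} : Set (SpG n F))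
  obtain ⟨hu, hu', hv⟩ := mem_three g h
  have e0 : G *ᵥ dl 0 = dl 0 := by
    rw [hG]; funext i
    show (if i.val = 0 then _ else _) = _
    simp [dl]
    split_ifs <;> simp_all
  have e1 : G *ᵥ dl 1 = dl 0 + r • dl 1 := by
    rw [hG]; funext i
    show (if i.val = 0 then _ else _) = _
    simp [dl]
    split_ifs <;> simp_all
  set a := eVec (dl (n := n) (F := F) 0) with ha
  have ha' : act h (orb n F 0) = a := by rw [hh 0 (by omega), e0]
  set w := eVec (dl (n := n) (F := F) 0 + r • dl 1) with hw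
  have hva : act (vSp h) a = w := by rw [← ha', act_v, hh 1 (by omega), e1]
  have hua : act (uSp n F)⁻¹ a = a := by
    rw [ha, act_u_e_inv]; congr 1; funext i; rw [shift_mulVec]; simp [dl]
  have huw : ∀ s : F, act (uSp n F)⁻¹ (w + s • a) = w + (r + s) • a := by
    intro s
    rw [act_add, act_smul, hua, hw, act_u_e_inv, ha]
    rw [← eVec_smul, ← eVec_smul, ← eVec_add, ← eVec_add]
    congr 1
    funext i
    simp only [Pi.add_apply, Pi.smul_apply, smul_eq_mul, shift_mulVec, dl]
    have := i.isLt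
    split_ifs <;> first | omega | contradiction | ring
  have hfull : Full K a := by
    refine tr_all (μ := 2 * r ^ 2) (gen_two_mul h2 hgen) (fun t ht => ?_) (t0 := b) ?_ hb
    · have k0 : tr w t ∈ K := by rw [← hva, ← tr_conj]; exact mul_mem (mul_mem hv ht) (inv_mem hv)
      have hstep : ∀ s d, tr (w + s • a) d ∈ K → tr (w + (r + s) • a) d ∈ K := fun s d hs => by
        rw [← huw, ← tr_conj, inv_inv]
        exact mul_mem (mul_mem (inv_mem hu) hs) hu
      have k1 := hstep 0 t (by rwa [zero_smul, add_zero])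
      rw [add_zero] at k1
      have k2 := hstep r t k1
      have k1' : tr (w + r • a) (-2 * t) ∈ K := by
        rw [show -2 * t = -(t + t) by ring, ← tr_inv, ← tr_mul]
        exact inv_mem (mul_mem k1 k1)
      rw [← tr_diff (a := a) (v := w) (by rw [ha, hw, bil_ee]) r t, two_mul r]
      exact mul_mem (mul_mem k2 k1') k0
    · rw [← hg]; exact mul_mem (inv_mem hu) hu'
  set z := act h (orb n F n) with hz
  have hzfull : Full K z := by
    rw [hz, ← act_v_pow n, ha']; exact hfull.act (pow_mem hv n)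
  have haz : stdForm n F a z = d0 n F := by
    rw [ha, ← e0, bil_top (by omega) hh]; simp [dl]
  have hwz : stdForm n F (act (uSp n F)⁻¹ w) z = r * d0 n F := by
    have := huw 0
    rw [zero_smul, add_zero, add_zero] at this
    rw [this, map_add, map_smul, LinearMap.add_apply, LinearMap.smul_apply, hw, ← e1, bil_top (by omega) hh, haz]
    simp [dl]
  have hua' : act (uSp n F) a = a := by
    conv_lhs => rw [← hua, act_act_inv]
  refine eq_top_of_spread ⟨-1, neg_ne_zero.2 one_ne_zero, fun e => h2 (by linear_combination -e)⟩ hfull hu hv ?_ ?_ ?_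
  · exact ⟨z, hzfull, by rw [haz]; exact d0_ne_zero, by rw [hua', haz]; exact d0_ne_zero⟩
  · refine ⟨act (uSp n F) z, hzfull.act hu, ?_, ?_⟩
    · rw [← hua', bil_act, haz]; exact d0_ne_zero
    · rw [hva, ← act_act_inv (uSp n F) w, bil_act, hwz]; exact mul_ne_zero hr d0_ne_zero
  · intro x hx
    obtain ⟨k, -, hk⟩ := separates (h := h) (by omega) x hx
    exact ⟨vSp h ^ k, pow_mem (Subgroup.subset_closure (by simp)) k, by rwa [← ha']⟩

end Cfsg.Agent.Lib.GenSp
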