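import Cfsg.Agent.Lib.GenSp.Basic

/-! From one full centre to all of `Sp`. -/

set_option autoImplicit false

namespace Cfsg.Agent.Lib.GenSp

open Matrix Cfsg.Agent.Lib.Symplectic

variable {n : ℕ} {F : Type*} [Field F] {K : Subgroup (SpG n F)}

/-- A common full neighbour. -/
def Rel (K : Subgroup (SpG n F)) (x y : Vsp n F) : Prop :=
  ∃ z, Full K z ∧ stdForm n F x z ≠ 0 ∧ stdForm n F y z ≠ 0

theorem Rel.symm {x y : Vsp n F} (h : Rel K x y) : Rel K y x := by
  obtain ⟨z, hz, h1, h2⟩ := h; exact ⟨z, hz, h2, h1⟩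

/-- Shortening a path of length three. -/
theorem collapse {x p q r : Vsp n F} (hp : Full K p) (hq : Full K q)
    (h1 : stdForm n F x p ≠ 0) (h2 : stdForm n F p q ≠ 0) (h3 : stdForm n F q r ≠ 0) : Rel K x r := by
  by_cases hxq : stdForm n F x q = 0
  swap
  · exact ⟨q, hq, hxq, bil_ne_swap h3⟩
  by_cases hrp : stdForm n F r p = 0
  swap
  · exact ⟨p, hp, h1, hrp⟩
  refine ⟨p + (1 : F) • q, hp.add_nonorth hq h2 1, ?_, ?_⟩
  · rwa [one_smul, map_add, hxq, add_zero]
  · rw [one_smul, map_add, hrp, zero_add]; exact bil_ne_swap h3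

theorem Rel.trans {x y z : Vsp n F} (hy : Full K y) (h : Rel K x y) (h' : Rel K y z) : Rel K x z := by
  obtain ⟨p, hp, h1, h2⟩ := h
  obtain ⟨q, hq, h3, h4⟩ := h'
  obtain ⟨c, hc, h5, h6⟩ := collapse hp hy h1 (bil_ne_swap h2) h3
  exact collapse hc hq h5 (bil_ne_swap h6) (bil_ne_swap h4)

theorem Rel.act {x y : Vsp n F} (h : Rel K x y) {g : SpG n F} (hg : g ∈ K) :
    Rel K (GenSp.act g x) (GenSp.act g y) := by
  obtain ⟨z, hz, h1, h2⟩ := h
  exact ⟨GenSp.act g z, hz.act hg, by rwa [bil_act], by rwa [bil_act]⟩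

/-- The criterion. -/
theorem eq_top_of_spread (hq : ∃ t : F, t ≠ 0 ∧ t ≠ 1) {a : Vsp n F} (ha : Full K a)
    {u v : SpG n F} (hu : u ∈ K) (hv : v ∈ K) (hua : Rel K a (act u a)) (hva : Rel K a (act v a))
    (hspan : ∀ x : Vsp n F, x ≠ 0 → ∃ g ∈ Subgroup.closure ({u, v} : Set (SpG n F)), stdForm n F x (act g a) ≠ 0) :
    K = ⊤ := by
  have hle : Subgroup.closure ({u, v} : Set (SpG n F)) ≤ K :=
    (Subgroup.closure_le K).2 (Set.insert_subset hu (Set.singleton_subset_iff.2 hv))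
  have haa : Rel K a a := by
    obtain ⟨z, hz, h1, -⟩ := hua; exact ⟨z, hz, h1, h1⟩
  let H : Subgroup (SpG n F) :=
    { carrier := {g | g ∈ K ∧ Rel K a (act g a)}
      one_mem' := ⟨one_mem K, by rwa [act_one]⟩
      mul_mem' := fun {g h} hg hh => ⟨mul_mem hg.1 hh.1, by
        rw [act_mul]; exact hg.2.trans (ha.act hg.1) (hh.2.act hg.1)⟩
      inv_mem' := fun {g} hg => ⟨inv_mem hg.1, by
        have := (hg.2.act (inv_mem hg.1)).symm
        rwa [act_inv_act] at this⟩ }
  have hH : Subgroup.closure ({u, v} : Set (SpG n F)) ≤ H :=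
    (Subgroup.closure_le H).2 (Set.insert_subset ⟨hu, hua⟩ (Set.singleton_subset_iff.2 ⟨hv, hva⟩))
  let M : Submodule F (Vsp n F) :=
    { carrier := {x | Full K x}
      zero_mem' := full_zero K
      smul_mem' := fun c x hx => hx.smul c
      add_mem' := fun {x y} hx hy => by
        show Full K (x + y)
        rcases eq_or_ne x 0 with rfl | hx0
        · rwa [zero_add]
        rcases eq_or_ne y 0 with rfl | hy0
        · rwa [add_zero]
        obtain ⟨g, hg, hgx⟩ := hspan x hx0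
        obtain ⟨h, hh, hhy⟩ := hspan y hy0
        obtain ⟨z, hz, h1, h2⟩ := (hH hg).2.symm.trans ha (hH hh).2
        obtain ⟨c, hc, h3, h4⟩ := collapse (ha.act (hle hg)) hz hgx h1 (bil_ne_swap h2)
        obtain ⟨d, hd, h5, h6⟩ := collapse hc (ha.act (hle hh)) h3 (bil_ne_swap h4) (bil_ne_swap hhy)
        have := hx.add_common hq hy hd h5 h6 1
        rwa [one_smul] at this }
  have hM : M = ⊤ := exists_dual M fun x hx => by
    obtain ⟨g, hg, hgx⟩ := hspan x hx
    exact ⟨act g a, ha.act (hle hg), hgx⟩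
  exact eq_top_of_full fun x => (hM ▸ Submodule.mem_top : x ∈ M)

/-- Every non-zero vector of `W` is a full centre and `W` is non-degenerate. -/
structure GoodSub (K : Subgroup (SpG n F)) (W : Submodule F (Vsp n F)) : Prop where
  full : ∀ w ∈ W, Full K w
  nondeg : ∀ w ∈ W, w ≠ 0 → ∃ w' ∈ W, stdForm n F w w' ≠ 0

/-- Moving the component in a good subspace. -/
theorem GoodSub.transfer {W : Submodule F (Vsp n F)} (hW : GoodSub K W) {x w w' : Vsp n F}
    (hx : ∀ y ∈ W, stdForm n F x y = 0) (hw : w ∈ W) (hw' : w' ∈ W) (hw0 : w ≠ 0) (hw0' : w' ≠ 0)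
    (h : Full K (x + w)) : Full K (x + w') := by
  have step : ∀ a b : Vsp n F, a ∈ W → b ∈ W → stdForm n F a b ≠ 0 → Full K (x + a) → Full K (x + b) := by
    intro a b ha hb hab hf
    have := hf.move (hW.full _ (sub_mem hb ha)) (1 / stdForm n F a b)
    rw [map_add, LinearMap.add_apply, hx _ (sub_mem hb ha), map_sub, bil_self, sub_zero, zero_add,
      div_mul_cancel₀ _ hab, one_smul] at this
    convert this using 1
    abel
  by_cases hh : stdForm n F w w' = 0
  swap
  · exact step w w' hw hw' hh h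
  obtain ⟨p, hp, hp'⟩ := hW.nondeg w hw hw0
  obtain ⟨q, hq, hq'⟩ := hW.nondeg w' hw' hw0'
  obtain ⟨m, hm, h1, h2⟩ : ∃ m ∈ W, stdForm n F w m ≠ 0 ∧ stdForm n F w' m ≠ 0 := by
    by_cases a : stdForm n F w' p = 0
    swap
    · exact ⟨p, hp, hp', a⟩
    by_cases b : stdForm n F w q = 0
    swap
    · exact ⟨q, hq, b, hq'⟩
    exact ⟨p + q, add_mem hp hq, by rwa [map_add, b, add_zero], by rwa [map_add, a, zero_add]⟩
  exact step m w' hm hw' (bil_ne_swap h2) (step w m hw hm h1 h)

/-- A plane of two non-orthogonal full centres. -/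
theorem goodSub_plane {p q : Vsp n F} (hfp : Full K p) (hq' : Full K q) (hpq : stdForm n F p q ≠ 0) :
    GoodSub K (Submodule.span F {p, q}) := by
  refine ⟨fun x hx => ?_, fun x hx hx0 => ?_⟩
  · obtain ⟨a, b, rfl⟩ := Submodule.mem_span_pair.1 hx
    exact hfp.plane_nonorth hq' hpq a b
  · obtain ⟨a, b, rfl⟩ := Submodule.mem_span_pair.1 hx
    by_cases hb : b = 0
    · have ha : a ≠ 0 := fun e => hx0 (by rw [e, hb, zero_smul, zero_smul, add_zero])
      refine ⟨q, Submodule.subset_span (by simp), ?_⟩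
      simp [hb, ha, hpq]
    · refine ⟨p, Submodule.subset_span (by simp), ?_⟩
      simp [hb, bil_self, bil_ne_swap hpq]

/-- Gluing a plane to a good subspace. -/
theorem GoodSub.glue {W : Submodule F (Vsp n F)} (hW : GoodSub K W) {p q w0 ws : Vsp n F}
    (hp : ∀ y ∈ W, stdForm n F p y = 0) (hq : ∀ y ∈ W, stdForm n F q y = 0) (hpq : stdForm n F p q ≠ 0)
    (hfp : Full K p) (hw0 : w0 ∈ W) (hfq : Full K (q + w0)) (hws : ws ∈ W) (hws0 : ws ≠ 0)
    (hfs : Full K (ws + p)) : GoodSub K (W ⊔ Submodule.span F {p, q}) := by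
  have hq' : Full K q := by
    by_cases h0 : w0 = 0
    · rwa [h0, add_zero] at hfq
    have h1 : Full K (q + ws) := hW.transfer hq hw0 hws h0 hws0 hfq
    have h2 := h1.move hfs (-1 / stdForm n F (q + ws) (ws + p))
    have e : stdForm n F (q + ws) (ws + p) = stdForm n F q p := by
      simp only [map_add, LinearMap.add_apply, bil_self, hq ws hws, bil_swap p ws, hp ws hws, neg_zero, zero_add,
        add_zero]
    rw [e, div_mul_cancel₀ _ (bil_ne_swap hpq)] at h2
    have h3 : Full K (q + (-1 : F) • p) := by convert h2 using 1; module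
    have h4 := h3.add_nonorth hfp (by
      rw [map_add, map_smul, LinearMap.add_apply, LinearMap.smul_apply, bil_self, smul_zero, add_zero]
      exact bil_ne_swap hpq) 1
    convert h4 using 1
    module
  set P := Submodule.span F ({p, q} : Set (Vsp n F)) with hP
  have hPW : ∀ x ∈ P, ∀ y ∈ W, stdForm n F x y = 0 := by
    intro x hx y hy
    obtain ⟨a, b, rfl⟩ := Submodule.mem_span_pair.1 hx
    simp [hp y hy, hq y hy]
  have hPgood : GoodSub K P := goodSub_plane hfp hq' hpq
  refine ⟨fun x hx => ?_, fun x hx hx0 => ?_⟩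
  · obtain ⟨w, hw, x', hx', rfl⟩ := Submodule.mem_sup.1 hx
    rcases eq_or_ne w 0 with rfl | hw'
    · rw [zero_add]; exact hPgood.full _ hx'
    rcases eq_or_ne x' 0 with rfl | hx''
    · rw [add_zero]; exact hW.full _ hw
    have hp0 : p ≠ 0 := fun e => hpq (by rw [e, map_zero, LinearMap.zero_apply])
    have h1 : Full K (p + w) := hW.transfer hp hws hw hws0 hw' (by rwa [add_comm] at hfs)
    have h2 := hPgood.transfer (x := w) (fun y hy => by rw [bil_swap, hPW y hy w hw, neg_zero])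
      (Submodule.subset_span (by simp : p ∈ ({p, q} : Set (Vsp n F)))) hx' hp0 hx'' (by rwa [add_comm] at h1)
    exact h2
  · obtain ⟨w, hw, x', hx', rfl⟩ := Submodule.mem_sup.1 hx
    rcases eq_or_ne w 0 with rfl | hw'
    · rw [zero_add] at hx0 ⊢
      obtain ⟨y, hy, hy'⟩ := hPgood.nondeg _ hx' hx0
      exact ⟨y, Submodule.mem_sup_right hy, hy'⟩
    · obtain ⟨y, hy, hy'⟩ := hW.nondeg _ hw hw'
      exact ⟨y, Submodule.mem_sup_left hy, by rwa [map_add, LinearMap.add_apply, hPW _ hx' y hy, add_zero]⟩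

theorem goodSub_bot : GoodSub K (⊥ : Submodule F (Vsp n F)) :=
  ⟨fun w hw => by rw [(Submodule.mem_bot F).1 hw]; exact full_zero K,
    fun w hw h => absurd ((Submodule.mem_bot F).1 hw) h⟩

end Cfsg.Agent.Lib.GenSp
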