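import Cfsg.Agent.Lib.GenSp.Spread
import Cfsg.Agent.Lib.Forms.SpParabolic
import Cfsg.Agent.Lib.GenSL.RegularGens

/-! The regular unipotent of `Sp` and a conjugate of it with prescribed orbit. -/

set_option autoImplicit false

namespace Cfsg.Agent.Lib.GenSp

open Matrix Cfsg.Agent.Lib.Symplectic Cfsg.Agent.Lib.Forms.SpParabolic Cfsg.Agent.Lib.GenSL

variable {n : ℕ} {F : Type*} [Field F]

/-- A vector of the first Lagrangian. -/
def eVec (z : Fin n → F) : Vsp n F := Sum.elim z 0

/-- A vector of the second Lagrangian. -/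
def fVec (y : Fin n → F) : Vsp n F := Sum.elim 0 y

theorem decomp (x : Vsp n F) : x = eVec (x ∘ Sum.inl) + fVec (x ∘ Sum.inr) := by
  funext i; rcases i with i | i <;> simp [eVec, fVec]

theorem eVec_add (z w : Fin n → F) : eVec (z + w) = eVec z + eVec w := by
  funext i; rcases i with i | i <;> simp [eVec]

theorem eVec_smul (a : F) (z : Fin n → F) : eVec (a • z) = a • eVec z := by
  funext i; rcases i with i | i <;> simp [eVec]

theorem eVec_zero : eVec (0 : Fin n → F) = 0 := by
  funext i; rcases i with i | i <;> simp [eVec]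

theorem fVec_zero : fVec (0 : Fin n → F) = 0 := by
  funext i; rcases i with i | i <;> simp [fVec]

theorem fVec_smul (a : F) (z : Fin n → F) : fVec (a • z) = a • fVec z := by
  funext i; rcases i with i | i <;> simp [fVec]

theorem bil_ee (z w : Fin n → F) : stdForm n F (eVec z) (eVec w) = 0 := by
  simp [stdForm_apply, eVec]

theorem bil_ff (z w : Fin n → F) : stdForm n F (fVec z) (fVec w) = 0 := by
  simp [stdForm_apply, fVec]

theorem bil_fe (y z : Fin n → F) : stdForm n F (fVec y) (eVec z) = y ⬝ᵥ z := by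
  simp [stdForm_apply, fVec, eVec, dotProduct]

theorem bil_ef (z y : Fin n → F) : stdForm n F (eVec z) (fVec y) = -(z ⬝ᵥ y) := by
  rw [bil_swap (fVec y), bil_fe, dotProduct_comm]

/-- Symmetric matrices. -/
abbrev Sym (n : ℕ) (F : Type*) [Field F] := {S : Matrix (Fin n) (Fin n) F // Sᵀ = S}

theorem act_mkSp (a : GL (Fin n) F) (S : Sym n F) (z y : Fin n → F) :
    act (mkSp a S) (eVec z + fVec y) =
      eVec ((a : Matrix (Fin n) (Fin n) F) *ᵥ z + ((a : Matrix (Fin n) (Fin n) F) * S.1) *ᵥ y) +
        fVec ((((a⁻¹ : GL (Fin n) F) : Matrix (Fin n) (Fin n) F))ᵀ *ᵥ y) := by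
  funext i
  show (fromBlocks _ _ _ _ *ᵥ _) i = _
  rw [fromBlocks_mulVec]
  have e1 : (eVec z + fVec y) ∘ Sum.inl = z := by funext j; simp [eVec, fVec]
  have e2 : (eVec z + fVec y) ∘ Sum.inr = y := by funext j; simp [eVec, fVec]
  rw [e1, e2]
  rcases i with i | i <;> simp [eVec, fVec]

theorem act_mkSp_e (a : GL (Fin n) F) (S : Sym n F) (z : Fin n → F) :
    act (mkSp a S) (eVec z) = eVec ((a : Matrix (Fin n) (Fin n) F) *ᵥ z) := by
  have := act_mkSp a S z 0
  simpa [fVec_zero] using this

theorem act_mkSp_f (a : GL (Fin n) F) (S : Sym n F) (y : Fin n → F) :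
    act (mkSp a S) (fVec y) = eVec (((a : Matrix (Fin n) (Fin n) F) * S.1) *ᵥ y) +
      fVec ((((a⁻¹ : GL (Fin n) F) : Matrix (Fin n) (Fin n) F))ᵀ *ᵥ y) := by
  have := act_mkSp a S 0 y
  simpa [eVec_zero] using this

theorem act_mkSp_zero_f (a : GL (Fin n) F) (y : Fin n → F) :
    act (mkSp a ⟨0, transpose_zero⟩) (fVec y) = fVec ((((a⁻¹ : GL (Fin n) F) : Matrix (Fin n) (Fin n) F))ᵀ *ᵥ y) := by
  simp [act_mkSp_f, eVec_zero]

theorem mkSp_mul (a b : GL (Fin n) F) (S T U : Sym n F)
    (hU : U.1 = ((b⁻¹ : GL (Fin n) F) : Matrix (Fin n) (Fin n) F) * S.1 *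
      (((b⁻¹ : GL (Fin n) F) : Matrix (Fin n) (Fin n) F))ᵀ + T.1) :
    mkSp a S * mkSp b T = mkSp (a * b) U := by
  refine ext_act fun x => ?_
  rw [decomp x]
  generalize (x ∘ Sum.inl) = z
  generalize (x ∘ Sum.inr) = y
  rw [act_mul, act_mkSp, act_mkSp, act_mkSp, hU]
  simp only [mulVec_add, mulVec_mulVec, Units.val_mul, _root_.mul_inv_rev, Matrix.transpose_mul, Matrix.mul_add, Matrix.mul_assoc]
  rw [add_mulVec]
  simp only [← Matrix.mul_assoc, Units.mul_inv_cancel_right]
  congr 2
  · abel

/-- The inverse of the bidiagonal matrix. -/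
noncomputable def aU (n : ℕ) (F : Type*) [Field F] : GL (Fin n) F :=
  (Matrix.SpecialLinearGroup.toGL (jordanSL n F))⁻¹

theorem coe_aU_inv : (((aU n F)⁻¹ : GL (Fin n) F) : Matrix (Fin n) (Fin n) F) = 1 + shiftMat n F := by
  rw [aU, inv_inv]; rfl

/-- The long root part. -/
def lastE (n : ℕ) (F : Type*) [Field F] (c : F) : Sym n F :=
  ⟨Matrix.diagonal fun i => if i.val + 1 = n then c else 0, diagonal_transpose _⟩

/-- The regular unipotent. -/
noncomputable def uSp (n : ℕ) (F : Type*) [Field F] : SpG n F := mkSp (aU n F) (lastE n F 1)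

/-- A basis vector. -/
def dl (k : ℕ) : Fin n → F := fun i => if i.val = k then 1 else 0

theorem dl_dot (k : ℕ) (hk : k < n) (w : Fin n → F) : dl k ⬝ᵥ w = w ⟨k, hk⟩ := by
  rw [dotProduct, Finset.sum_eq_single ⟨k, hk⟩]
  · simp [dl]
  · intro b _ hb; simp [dl, Fin.val_ne_of_ne hb]
  · simp

/-- The alternating vector. -/
def sig (n : ℕ) (F : Type*) [Field F] : Fin n → F := fun i => (-1) ^ (n - 1 - i.val)

theorem shift_mulVec (z : Fin n → F) (i : Fin n) :
    ((1 + shiftMat n F) *ᵥ z) i = z i + if h : i.val + 1 < n then z ⟨i.val + 1, h⟩ else 0 := by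
  rw [add_mulVec, one_mulVec, Pi.add_apply]
  congr 1
  rw [mulVec, dotProduct]
  by_cases h : i.val + 1 < n
  · rw [dif_pos h, Finset.sum_eq_single ⟨i.val + 1, h⟩]
    · simp [shiftMat]
    · intro b _ hb; simp [shiftMat]; intro e; exact absurd (Fin.ext e.symm) hb
    · simp
  · rw [dif_neg h]
    exact Finset.sum_eq_zero fun b _ => by simp [shiftMat]; intro e; have := b.isLt; omega

theorem shift_sig (hn : 1 ≤ n) : (1 + shiftMat n F) *ᵥ sig n F = dl (n - 1) := by
  funext i
  have := i.isLt
  rw [shift_mulVec]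
  by_cases h : i.val + 1 < n
  · rw [dif_pos h]
    simp only [sig, dl]
    rw [if_neg (by omega), show n - 1 - i.val = n - 1 - (i.val + 1) + 1 by omega, pow_succ]
    ring
  · rw [dif_neg h]
    simp [sig, dl, show i.val = n - 1 by omega]

theorem aU_dl (hn : 1 ≤ n) : ((aU n F : GL (Fin n) F) : Matrix (Fin n) (Fin n) F) *ᵥ dl (n - 1) = sig n F := by
  rw [← shift_sig hn, mulVec_mulVec, ← coe_aU_inv, Units.mul_inv, one_mulVec]

theorem aU_dl_zero : ((aU n F : GL (Fin n) F) : Matrix (Fin n) (Fin n) F) *ᵥ dl 0 = dl 0 := by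
  have e : (1 + shiftMat n F) *ᵥ dl 0 = dl (n := n) (F := F) 0 := by
    funext i; rw [shift_mulVec]; simp [dl]
  conv_lhs => rw [← e, mulVec_mulVec, ← coe_aU_inv, Units.mul_inv, one_mulVec]

/-- One step on the second Lagrangian. -/
def fstep (y : Fin n → F) : Fin n → F := fun i => y i + if h : 1 ≤ i.val then y ⟨i.val - 1, by omega⟩ else 0

theorem act_u_f (y : Fin n → F) (hn : 1 ≤ n) :
    act (uSp n F) (fVec y) = eVec (y ⟨n - 1, by omega⟩ • sig n F) + fVec (fstep y) := by
  rw [uSp, act_mkSp_f]
  congr 2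
  · rw [← mulVec_mulVec, ← aU_dl hn, ← mulVec_smul]
    congr 1
    funext i
    rw [lastE, mulVec_diagonal]
    simp only [dl, Pi.smul_apply, smul_eq_mul]
    by_cases h : i.val + 1 = n
    · rw [if_pos h, if_pos (show i.val = n - 1 by omega), show i = ⟨n - 1, by omega⟩ from Fin.ext (by simp only; omega)]
      ring
    · simp [h]; intro e; omega
  · funext i
    rw [coe_aU_inv, mulVec, dotProduct, fstep]
    simp only [Matrix.transpose_apply, Matrix.add_apply, Matrix.one_apply, shiftMat, Matrix.of_apply, add_mul,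
      Finset.sum_add_distrib, ite_mul, one_mul, zero_mul, Finset.sum_ite_eq', Finset.mem_univ, if_true]
    congr 1
    by_cases h : 1 ≤ i.val
    · rw [dif_pos h, Finset.sum_eq_single ⟨i.val - 1, by omega⟩]
      · simp; omega
      · intro b _ hb; simp [Fin.ext_iff] at hb; simp; omega
      · simp
    · rw [dif_neg h]
      exact Finset.sum_eq_zero fun b _ => by simp; omega

theorem act_u_e_inv (z : Fin n → F) : act (uSp n F)⁻¹ (eVec z) = eVec ((1 + shiftMat n F) *ᵥ z) := by
  have h : act (uSp n F) (eVec ((1 + shiftMat n F) *ᵥ z)) = eVec z := by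
    rw [uSp, act_mkSp_e, mulVec_mulVec, ← coe_aU_inv, Units.mul_inv, one_mulVec]
  conv_lhs => rw [← h, act_inv_act]

/-- The binomial vectors. -/
def phi (n : ℕ) (F : Type*) [Field F] : ℕ → Fin n → F
  | 0 => dl 0
  | k + 1 => fstep (phi n F k)

theorem phi_high (k : ℕ) (i : Fin n) (h : k < i.val) : phi n F k i = 0 := by
  induction k generalizing i with
  | zero => simp [phi, dl]; omega
  | succ k ih =>
    simp only [phi, fstep]
    rw [ih i (by omega), dif_pos (by omega), ih _ (by simp only; omega), add_zero]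

theorem phi_diag (k : ℕ) (i : Fin n) (h : i.val = k) : phi n F k i = 1 := by
  induction k generalizing i with
  | zero => simp [phi, dl, h]
  | succ k ih =>
    simp only [phi, fstep]
    rw [phi_high k i (by omega), dif_pos (by omega), ih _ (by simp only; omega), zero_add]

/-- The orbit of the cyclic vector. -/
noncomputable def orb (n : ℕ) (F : Type*) [Field F] (k : ℕ) : Vsp n F := act (uSp n F ^ k) (fVec (dl 0))

theorem orb_succ (k : ℕ) : orb n F (k + 1) = act (uSp n F) (orb n F k) := by
  rw [orb, orb, pow_succ', act_mul]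

theorem orb_low (k : ℕ) (hk : k < n) : orb n F k = fVec (phi n F k) := by
  induction k with
  | zero => rw [orb, pow_zero, act_one]; rfl
  | succ k ih =>
    rw [orb_succ, ih (by omega), act_u_f _ (by omega), phi_high k ⟨n - 1, by omega⟩ (by simp only; omega), zero_smul,
      eVec_zero, zero_add]
    rfl

theorem bil_orb (j k : ℕ) : stdForm n F (orb n F j) (orb n F (j + k)) = stdForm n F (orb n F 0) (orb n F k) := by
  have e : ∀ m, orb n F (j + m) = act (uSp n F ^ j) (orb n F m) := fun m => by
    rw [orb, orb, pow_add, act_mul]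
  conv_lhs => rw [e k, show orb n F j = act (uSp n F ^ j) (orb n F 0) from e 0, bil_act]

theorem bil_orb_small (k : ℕ) (hk : k < n) : stdForm n F (orb n F 0) (orb n F k) = 0 := by
  rw [orb_low 0 (by omega), orb_low k hk, bil_ff]

/-- The first non-zero value. -/
def d0 (n : ℕ) (F : Type*) [Field F] : F := (-1) ^ (n - 1)

theorem d0_ne_zero : d0 n F ≠ 0 := pow_ne_zero _ (neg_ne_zero.2 one_ne_zero)

theorem bil_orb_n (hn : 1 ≤ n) : stdForm n F (orb n F 0) (orb n F n) = d0 n F := by
  obtain ⟨m, rfl⟩ : ∃ m, n = m + 1 := ⟨n - 1, by omega⟩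
  rw [orb_succ, orb_low m (by omega), orb_low 0 (by omega), act_u_f _ (by omega), map_add, bil_ff, add_zero,
    phi_diag m ⟨m + 1 - 1, by omega⟩ (by simp), one_smul, bil_fe, phi, dl_dot 0 (by omega)]
  simp [sig, d0]

/-- The pairing between the two halves of the orbit. -/
theorem bil_low_high (hn : 1 ≤ n) (i j : ℕ) (hi : i < n) (hji : j ≤ i) :
    stdForm n F (orb n F i) (orb n F (n + j)) = if j = i then d0 n F else 0 := by
  obtain ⟨m, hm⟩ : ∃ m, n + j = i + m := ⟨n + j - i, by omega⟩
  rw [hm, bil_orb]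
  split_ifs with h
  · rw [show m = n by omega, bil_orb_n hn]
  · rw [bil_orb_small m (by omega)]

/-- The orbit spans. -/
theorem orb_separates (hn : 1 ≤ n) (x : Vsp n F) (hx : x ≠ 0) : ∃ j, j < 2 * n ∧ stdForm n F x (orb n F j) ≠ 0 := by
  classical
  by_contra hall
  push Not at hall
  refine hx ?_
  rw [decomp x]
  set z := x ∘ Sum.inl
  set y := x ∘ Sum.inr
  have hz : z = 0 := by
    suffices H : ∀ (k : ℕ) (i : Fin n), i.val = k → z i = 0 from funext fun i => H _ i rfl
    intro k
    induction k using Nat.strong_induction_on with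
    | _ k ih =>
      intro i hi
      have h := hall k (by have := i.isLt; omega)
      rw [decomp x, orb_low k (by omega), map_add, LinearMap.add_apply, bil_ff, add_zero, bil_ef, neg_eq_zero,
        dotProduct, Finset.sum_eq_single i] at h
      · rwa [phi_diag k i hi, mul_one] at h
      · intro b _ hb
        rcases lt_or_gt_of_ne (fun e => hb (Fin.ext e) : b.val ≠ i.val) with hlt | hgt
        · rw [show (x ∘ Sum.inl) b = 0 from ih b.val (by omega) b rfl, zero_mul]
        · rw [phi_high k b (by omega), mul_zero]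
      · simp
  rw [hz, eVec_zero, zero_add]
  -- `fVec y` is a combination of the first half
  suffices H : ∀ (m : ℕ), m ≤ n → ∀ y : Fin n → F, (∀ i : Fin n, n - m ≤ i.val → y i = 0) →
      ∃ α : ℕ → F, fVec y = ∑ i ∈ Finset.range (n - m), α i • orb n F i by
    obtain ⟨α, hα⟩ := H 0 (by omega) y (fun i hi => absurd i.isLt (by omega))
    rw [Nat.sub_zero] at hα
    rw [hα]
    have hzero : ∀ j, j < n → α j = 0 := by
      intro j
      induction j using Nat.strong_induction_on with
      | _ j ih =>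
        intro hj
        have h := hall (n + j) (by omega)
        rw [decomp x] at h
        change stdForm n F (eVec z + fVec y) _ = 0 at h
        rw [hz, eVec_zero, zero_add, hα, map_sum, LinearMap.sum_apply, Finset.sum_eq_single j] at h
        · rw [map_smul, LinearMap.smul_apply, bil_low_high hn j j hj le_rfl, if_pos rfl, smul_eq_mul,
            mul_eq_zero] at h
          exact h.resolve_right d0_ne_zero
        · intro b hb hbj
          have := Finset.mem_range.1 hb
          rcases lt_or_gt_of_ne hbj with hlt | hgt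
          · rw [ih b hlt this, zero_smul, map_zero, LinearMap.zero_apply]
          · rw [map_smul, LinearMap.smul_apply, bil_low_high hn b j this hgt.le, if_neg hgt.ne, smul_zero]
        · intro hb; exact absurd (Finset.mem_range.2 hj) hb
    exact Finset.sum_eq_zero fun i hi => by rw [hzero i (Finset.mem_range.1 hi), zero_smul]
  intro m hm
  induction h : n - m generalizing m with
  | zero =>
    intro y hy
    refine ⟨0, ?_⟩
    rw [show y = 0 from funext fun i => hy i (Nat.zero_le _), fVec_zero]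
    simp
  | succ k ih =>
    intro y hy
    obtain ⟨α, hα⟩ := ih (m + 1) (by omega) (by omega) (y - y ⟨k, by omega⟩ • phi n F k) (fun i hi => by
      rw [Pi.sub_apply, Pi.smul_apply]
      rcases eq_or_ne i.val k with e | e
      · rw [phi_diag k i e, show i = ⟨k, by omega⟩ from Fin.ext e]; simp
      · rw [phi_high k i (by omega), hy i (by omega)]; simp)
    refine ⟨fun i => if i = k then y ⟨k, by omega⟩ else α i, ?_⟩
    simp only
    rw [Finset.sum_range_succ, if_pos rfl, orb_low k (by omega), Finset.sum_congr rfl (g := fun i => α i • orb n F i)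
      (fun i hi => by rw [if_neg (Finset.mem_range.1 hi).ne]), ← hα]
    funext i
    rcases i with i | i <;> simp [fVec]

end Cfsg.Agent.Lib.GenSp
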